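import Cfsg.Agent.Lib.LyStd.Fin
import Cfsg.Agent.Lib.LyRecog.Amalg.EdgeMap
import Cfsg.Agent.Lib.Layer.StandardRankOne
import Cfsg.Agent.Lib.Perm.AutAlternating

/-!
A standard copy of the double cover of the alternating group on eleven points and the action of its
normaliser on the eleven points.
-/

set_option autoImplicit false
set_option linter.style.haveILetI false

open scoped commutatorElement

namespace CfsgLib.LyStd

open Equiv CfsgLib.CosetEnum CfsgLib.LyPres CfsgLib.LyCent CfsgLib.LyCent.Fus CfsgLib.LyCent.Out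
  CfsgLib.LyRecog

universe u

/-- the map of the cover onto the alternating group -/
noncomputable def piA : subX →* alternatingGroup (Fin 11) := exists_mapY.choose

theorem piA_surj : Function.Surjective piA := exists_mapY.choose_spec.1

theorem piA_ker : piA.ker = Subgroup.zpowers tX := exists_mapY.choose_spec.2.1

theorem piA_E : piA (yX 0 * yX 1) = aE := exists_mapY.choose_spec.2.2.1

theorem piA_Y (c : ℕ) : (piA (yN c)).1 = pN c := exists_mapY.choose_spec.2.2.2 c

/-- the same map into the symmetric group -/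
noncomputable def piX : subX →* Perm (Fin 11) := (alternatingGroup (Fin 11)).subtype.comp piA

theorem piX_def (x : subX) : piX x = (piA x).1 := rfl

theorem piX_prodW (w : List ℕ) : piX (prodW yN w) = prodW pN w := pi_prodW piA_Y w

theorem piX_W : piX (xW 0) = pW 0 := piX_prodW _

theorem piX_eq_one {x : subX} : piX x = 1 ↔ x = 1 ∨ x = tX := by
  constructor
  · exact fun h => ker_cases piA_ker (Subtype.ext h)
  · rintro (rfl | rfl)
    · exact map_one _
    · exact congrArg Subtype.val (pi_tX piA_ker)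

theorem piX_tX : piX tX = 1 := piX_eq_one.mpr (Or.inr rfl)

theorem piX_eq {x y : subX} (h : piX x = piX y) : y = x ∨ y = x * tX := by
  rcases piX_eq_one.mp (show piX (x⁻¹ * y) = 1 by rw [map_mul, map_inv, h, inv_mul_cancel]) with e | e
  · exact Or.inl (inv_mul_eq_one.mp e).symm
  · exact Or.inr (inv_mul_eq_iff_eq_mul.mp e)

theorem exists_lift {s : Perm (Fin 11)} (hs : Perm.sign s = 1) : ∃ x : subX, piX x = s := by
  obtain ⟨x, hx⟩ := piA_surj ⟨s, Perm.mem_alternatingGroup.mpr hs⟩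
  exact ⟨x, congrArg Subtype.val hx⟩

theorem sign_piX (x : subX) : Perm.sign (piX x) = 1 := Perm.mem_alternatingGroup.mp (piA x).2

theorem tX_ne : tX ≠ 1 := fun e => by
  have := orderOf_tX
  rw [e, orderOf_one] at this
  omega

theorem pW_facts : pW 0 * pW 0 = 1 ∧ pW 0 ≠ 1 ∧ (pW 0).support.card = 8 := by decide +kernel

theorem eq_one_of_commute_alt {σ : Perm (Fin 11)}
    (h : ∀ a : Perm (Fin 11), Perm.sign a = 1 → σ * a = a * σ) : σ = 1 := by
  refine CfsgLib.AutAlternating.conjNormal_injective (n := 11) (by norm_num) ?_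
  rw [map_one]
  refine MulEquiv.ext fun a => Subtype.ext ?_
  rw [MulAut.conjNormal_apply, MulAut.one_apply, mul_inv_eq_iff_eq_mul]
  exact h a.1 (Perm.mem_alternatingGroup.mp a.2)

/-- A perfect group covers a perfect set: it contains `T`, and its elements are products of commutators of
lifts of the set. -/
theorem exists_perfect_lift {X : Set (Perm (Fin 11))}
    (hX : ∀ s ∈ X, Perm.sign s = 1 ∧ ∃ a ∈ X, ∃ b ∈ X, ⁅a, b⁆ = s)
    {d : Perm (Fin 11)} (hd : d ∈ X) (hd2 : d * d = 1) (hd4 : d.support.card = 4) :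
    ∃ R : Subgroup subX, ⁅R, R⁆ = R ∧ tX ∈ R ∧
      R = Subgroup.closure {r | ∃ a b : subX, piX a ∈ X ∧ piX b ∈ X ∧ piX ⁅a, b⁆ ∈ X ∧ r = ⁅a, b⁆} := by
  refine ⟨_, ?_, ?_, rfl⟩
  · set S := {r | ∃ a b : subX, piX a ∈ X ∧ piX b ∈ X ∧ piX ⁅a, b⁆ ∈ X ∧ r = ⁅a, b⁆} with hS
    have hgen : ∀ a : subX, piX a ∈ X → ∃ r ∈ S, piX r = piX a := by
      intro a ha
      obtain ⟨-, p, hp, q, hq, e⟩ := hX _ ha
      obtain ⟨p', rfl⟩ := exists_lift (hX _ hp).1
      obtain ⟨q', rfl⟩ := exists_lift (hX _ hq).1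
      rw [← map_commutatorElement] at e
      exact ⟨⁅p', q'⁆, ⟨p', q', hp, hq, e ▸ ha, rfl⟩, e⟩
    refine le_antisymm (Subgroup.commutator_le_self _) ((Subgroup.closure_le _).mpr ?_)
    rintro _ ⟨a, b, ha, hb, -, rfl⟩
    obtain ⟨r, hr, er⟩ := hgen a ha
    obtain ⟨s, hs, es⟩ := hgen b hb
    have hl : ∀ r a b : subX, (a = r ∨ a = r * tX) → ⁅a, b⁆ = ⁅r, b⁆ := by
      rintro r a b (rfl | rfl)
      · rfl
      · rw [commutatorElement_def, commutatorElement_def, mul_inv_rev]
        calc r * tX * b * (tX⁻¹ * r⁻¹) * b⁻¹ = r * ((tX * b) * tX⁻¹) * r⁻¹ * b⁻¹ := by group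
          _ = r * b * r⁻¹ * b⁻¹ := by rw [← tX_comm b, mul_inv_cancel_right]
    have hr' : ∀ r a b : subX, (b = r ∨ b = r * tX) → ⁅a, b⁆ = ⁅a, r⁆ := by
      intro r a b h
      rw [← commutatorElement_inv, hl r b a h, commutatorElement_inv]
    rw [hl r a b (piX_eq er), hr' s r b (piX_eq es)]
    exact Subgroup.commutator_mem_commutator (Subgroup.subset_closure hr) (Subgroup.subset_closure hs)
  · obtain ⟨-, p, hp, q, hq, e⟩ := hX d hd
    obtain ⟨p', rfl⟩ := exists_lift (hX _ hp).1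
    obtain ⟨q', rfl⟩ := exists_lift (hX _ hq).1
    rw [← map_commutatorElement] at e
    have hsq : ⁅p', q'⁆ * ⁅p', q'⁆ = tX := sq_of_dd piA_surj piA_ker piA_E
      (by rw [← piX_def, e]; exact hd2) (by rw [← piX_def, e]; exact hd4)
    rw [← hsq]
    exact mul_mem (Subgroup.subset_closure ⟨p', q', hp, hq, e ▸ hd, rfl⟩)
      (Subgroup.subset_closure ⟨p', q', hp, hq, e ▸ hd, rfl⟩)

/-- the situation -/
structure Ctx (G : Type u) [Group G] where
  /-- the copy of the cover -/
  ι : subX →* G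
  /-- faithful -/
  inj : Function.Injective ι
  /-- standard -/
  std : Cfsg.IsStandardSubgroup ι.range

namespace Ctx

variable {G : Type u} [Group G] (c : Ctx G)

/-- the central involution -/
noncomputable def z : G := c.ι tX

/-- its centraliser -/
noncomputable def N : Subgroup G := Subgroup.centralizer ({c.z} : Set G)

/-- the centraliser of the copy -/
noncomputable def K : Subgroup G := Subgroup.centralizer (c.ι.range : Set G)

theorem mem_K {k : G} : k ∈ c.K ↔ ∀ x : subX, c.ι x * k = k * c.ι x := by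
  rw [K, Subgroup.mem_centralizer_iff]
  exact ⟨fun h x => h _ ⟨x, rfl⟩, fun h _ ⟨x, hx⟩ => hx ▸ h x⟩

theorem mem_N {n : G} : n ∈ c.N ↔ n * c.z = c.z * n := by
  rw [N, Subgroup.mem_centralizer_singleton_iff]

theorem z_mem_K : c.z ∈ c.K := c.mem_K.mpr fun x => by rw [z, ← map_mul, tX_comm, map_mul]

theorem z_ne : c.z ≠ 1 := fun e => tX_ne (c.inj (e.trans (map_one c.ι).symm))

theorem z_sq : c.z * c.z = 1 := by rw [z, ← map_mul, tX_sq, map_one]

theorem orderOf_z : orderOf c.z = 2 := by rw [z, orderOf_injective c.ι c.inj, orderOf_tX]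

theorem z_mem_N : c.z ∈ c.N := c.mem_N.mpr rfl

theorem iota_mem_N (x : subX) : c.ι x ∈ c.N := c.mem_N.mpr (by rw [z, ← map_mul, tX_comm, map_mul])

theorem K_le_N : c.K ≤ c.N := fun k hk => c.mem_N.mpr (by rw [z]; exact (c.mem_K.mp hk tX).symm)

theorem central_eq {x : subX} (h : ∀ y : subX, y * x = x * y) : x = 1 ∨ x = tX := by
  refine piX_eq_one.mp (eq_one_of_commute_alt fun a ha => ?_)
  obtain ⟨y, rfl⟩ := exists_lift ha
  rw [← map_mul, ← map_mul, h]

variable [Finite G]

theorem norm_eq : Subgroup.normalizer (c.ι.range : Set G) = c.N := by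
  refine le_antisymm (fun n hn => ?_) fun n hn =>
    StandardRankOne.centralizer_involution_le _ c.std c.z_mem_K c.orderOf_z (c.mem_N.mp hn)
  obtain ⟨x, hx⟩ := (Subgroup.mem_normalizer_iff.mp hn c.z).1 ⟨tX, rfl⟩
  have hcen : ∀ y : subX, y * x = x * y := fun y => c.inj (by
    obtain ⟨y', hy'⟩ := (Subgroup.mem_normalizer_iff''.mp hn (c.ι y)).1 ⟨y, rfl⟩
    have := c.mem_K.mp c.z_mem_K y'
    rw [map_mul, map_mul, hx]
    calc c.ι y * (n * c.z * n⁻¹) = n * ((n⁻¹ * c.ι y * n) * c.z) * n⁻¹ := by group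
      _ = n * (c.z * (n⁻¹ * c.ι y * n)) * n⁻¹ := by rw [← hy', this]
      _ = _ := by group)
  rcases central_eq hcen with rfl | rfl
  · rw [map_one] at hx
    exfalso
    refine c.z_ne ?_
    calc c.z = n⁻¹ * (n * c.z * n⁻¹) * n := by group
      _ = 1 := by rw [← hx]; group
  · rw [c.mem_N]
    exact mul_inv_eq_iff_eq_mul.mp hx.symm

theorem conj_iota {n : G} (hn : n ∈ c.N) (x : subX) : ∃ x' : subX, n * c.ι x * n⁻¹ = c.ι x' := by
  rw [← c.norm_eq] at hn
  obtain ⟨x', hx'⟩ := (Subgroup.mem_normalizer_iff.mp hn (c.ι x)).1 ⟨x, rfl⟩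
  exact ⟨x', hx'.symm⟩

theorem conj_K {n k : G} (hn : n ∈ c.N) (hk : k ∈ c.K) : n * k * n⁻¹ ∈ c.K := by
  refine c.mem_K.mpr fun x => ?_
  obtain ⟨x', hx'⟩ := c.conj_iota (c.N.inv_mem hn) x
  rw [inv_inv] at hx'
  calc c.ι x * (n * k * n⁻¹) = n * ((n⁻¹ * c.ι x * n) * k) * n⁻¹ := by group
    _ = n * (k * (n⁻¹ * c.ι x * n)) * n⁻¹ := by rw [hx', c.mem_K.mp hk]
    _ = _ := by group

/-- Two conjugate involutions of the centraliser of the copy are conjugate only in the normaliser. -/
theorem mem_N_of_conj {u h : G} (hu : u ∈ c.K) (h2 : orderOf u = 2) (hh : h * u * h⁻¹ ∈ c.K) : h ∈ c.N := by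
  rw [← c.norm_eq, c.std.2.2.2]
  by_contra hn
  have hodd := c.std.2.1.2 h hn
  have hm : h * u * h⁻¹ ∈ c.K ⊓ c.K.map (MulAut.conj h).toMonoidHom := ⟨hh, u, hu, rfl⟩
  have h3 := Subgroup.orderOf_dvd_natCard _ hm
  rw [← MulAut.conj_apply, MulEquiv.orderOf_eq, h2] at h3
  exact (Nat.not_even_iff_odd.mpr hodd) (even_iff_two_dvd.mpr h3)

/-- The centraliser of an involution of `K` lies in `N`. -/
theorem centralizer_le {u y : G} (hu : u ∈ c.K) (h2 : orderOf u = 2) (hy : y * u = u * y) : y ∈ c.N :=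
  c.mem_N_of_conj hu h2 (by rwa [hy, mul_inv_cancel_right])

theorem exists_perm {n : G} (hn : n ∈ c.N) :
    ∃ σ : Perm (Fin 11), ∀ x x' : subX, n * c.ι x * n⁻¹ = c.ι x' → σ * piX x * σ⁻¹ = piX x' := by
  classical
  choose f hf using c.conj_iota hn
  choose f' hf' using c.conj_iota (c.N.inv_mem hn)
  let θ : MulAut subX :=
    { toFun := f
      invFun := f'
      left_inv := fun x => c.inj (by rw [← hf', ← hf]; group)
      right_inv := fun x => c.inj (by rw [← hf, ← hf']; group)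
      map_mul' := fun x y => c.inj (by rw [map_mul, ← hf, ← hf, ← hf, map_mul]; group) }
  have hker : ∀ x, piA x = 1 → piA (θ x) = 1 := by
    intro x hx
    rcases ker_cases piA_ker hx with rfl | rfl
    · rw [map_one, map_one]
    · refine Subtype.ext (piX_eq_one.mpr (central_eq fun y => ?_))
      conv_lhs => rw [← θ.apply_symm_apply y, ← map_mul, tX_comm, map_mul, θ.apply_symm_apply]
  have hwd : ∀ x y, piA x = piA y → piA (θ x) = piA (θ y) := fun x y e => by
    have h := hker (x⁻¹ * y) (by rw [map_mul, map_inv, e, inv_mul_cancel])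
    rwa [map_mul, map_inv, map_mul, map_inv, inv_mul_eq_one] at h
  let lift : alternatingGroup (Fin 11) → subX := Function.surjInv piA_surj
  have hl : ∀ a, piA (lift a) = a := Function.surjInv_eq piA_surj
  let ψ : alternatingGroup (Fin 11) →* alternatingGroup (Fin 11) :=
    MonoidHom.mk' (fun a => piA (θ (lift a))) fun a b => by
      rw [← map_mul, ← map_mul]
      exact hwd _ _ (by rw [map_mul, hl, hl, hl])
  have hψ : Function.Surjective ψ := fun a => by
    obtain ⟨x, rfl⟩ := piA_surj a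
    refine ⟨piA (θ.symm x), ?_⟩
    show piA (θ (lift _)) = piA x
    rw [hwd _ (θ.symm x) (hl _), θ.apply_symm_apply]
  obtain ⟨σ, hσ⟩ := CfsgLib.AutAlternating.eq_conj (n := 11) (by norm_num) (by norm_num)
    (MulEquiv.ofBijective ψ (Finite.injective_iff_surjective.mpr hψ |> fun h => ⟨h, hψ⟩))
  refine ⟨σ, fun x x' hx => ?_⟩
  have h := congrArg Subtype.val (MulEquiv.ext_iff.mp hσ (piA x))
  rw [MulAut.conjNormal_apply] at h
  rw [piX_def, piX_def, h]
  show (piA (θ (lift (piA x)))).1 = _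
  rw [hwd _ x (hl _)]
  exact congrArg (fun y => (piA y).1) (c.inj ((hf x).symm.trans hx) : θ x = x')

/-- the permutation induced by an element of the normaliser -/
noncomputable def sig (n : G) : Perm (Fin 11) :=
  Classical.epsilon fun σ => ∀ x x' : subX, n * c.ι x * n⁻¹ = c.ι x' → σ * piX x * σ⁻¹ = piX x'

theorem sig_spec {n : G} (hn : n ∈ c.N) {x x' : subX} (h : n * c.ι x * n⁻¹ = c.ι x') :
    c.sig n * piX x * (c.sig n)⁻¹ = piX x' :=
  Classical.epsilon_spec (c.exists_perm hn) x x' h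

theorem sig_unique {n : G} (hn : n ∈ c.N) {σ : Perm (Fin 11)}
    (h : ∀ x x' : subX, n * c.ι x * n⁻¹ = c.ι x' → σ * piX x * σ⁻¹ = piX x') : c.sig n = σ := by
  refine (inv_mul_eq_one.mp (eq_one_of_commute_alt fun a ha => ?_)).symm
  obtain ⟨x, rfl⟩ := exists_lift ha
  obtain ⟨x', hx'⟩ := c.conj_iota hn x
  have e1 := c.sig_spec hn hx'
  rw [← h x x' hx'] at e1
  calc σ⁻¹ * c.sig n * piX x = σ⁻¹ * (c.sig n * piX x * (c.sig n)⁻¹) * c.sig n := by group
    _ = piX x * (σ⁻¹ * c.sig n) := by rw [e1]; group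

theorem sig_one : c.sig 1 = 1 := c.sig_unique c.N.one_mem fun x x' h => by
  rw [one_mul, inv_one, mul_one] at h
  rw [one_mul, inv_one, mul_one, c.inj h]

theorem sig_mul {a b : G} (ha : a ∈ c.N) (hb : b ∈ c.N) : c.sig (a * b) = c.sig a * c.sig b := by
  refine c.sig_unique (c.N.mul_mem ha hb) fun x x' h => ?_
  obtain ⟨y, hy⟩ := c.conj_iota hb x
  have hy2 : a * c.ι y * a⁻¹ = c.ι x' := by rw [← hy, ← h]; group
  rw [← c.sig_spec ha hy2, ← c.sig_spec hb hy]
  group

theorem sig_inv {a : G} (ha : a ∈ c.N) : c.sig a⁻¹ = (c.sig a)⁻¹ :=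
  eq_inv_of_mul_eq_one_left (by rw [← c.sig_mul (c.N.inv_mem ha) ha, inv_mul_cancel, c.sig_one])

theorem sig_pow {a : G} (ha : a ∈ c.N) (n : ℕ) : c.sig (a ^ n) = c.sig a ^ n := by
  induction n with
  | zero => rw [pow_zero, pow_zero, c.sig_one]
  | succ n ih => rw [pow_succ, pow_succ, c.sig_mul (c.N.pow_mem ha n) ha, ih]

theorem sig_iota (y : subX) : c.sig (c.ι y) = piX y := c.sig_unique (c.iota_mem_N y) fun x x' h => by
  rw [← map_inv, ← map_mul, ← map_mul] at h
  rw [← map_inv, ← map_mul, ← map_mul, c.inj h]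

theorem sig_z : c.sig c.z = 1 := by rw [z, c.sig_iota, piX_tX]

theorem sig_eq_one_iff {n : G} (hn : n ∈ c.N) : c.sig n = 1 ↔ n ∈ c.K := by
  constructor
  · intro h1
    choose f hf using c.conj_iota hn
    have hcase : ∀ x, f x = x ∨ f x = x * tX := fun x => piX_eq (by
      rw [← c.sig_spec hn (hf x), h1, one_mul, inv_one, mul_one])
    have hfm : ∀ x y, f (x * y) = f x * f y := fun x y => c.inj (by
      rw [map_mul, ← hf, ← hf, ← hf, map_mul]; group)
    have hcm : ∀ x y : subX, (x⁻¹ * f x) * (y⁻¹ * f y) = (x * y)⁻¹ * f (x * y) := by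
      intro x y
      have hy : ∀ w, w * (x⁻¹ * f x) = (x⁻¹ * f x) * w := fun w => by
        rcases hcase x with e | e <;> rw [e]
        · simp
        · rw [inv_mul_cancel_left]; exact tX_comm w
      rw [← mul_assoc, ← hy y⁻¹, hfm]
      group
    let e : subX →* subX := MonoidHom.mk' (fun x => x⁻¹ * f x) fun x y => (hcm x y).symm
    have he : ∀ x, e x = 1 := by
      intro x
      have hle : commutator subX ≤ e.ker := by
        rw [commutator_def, Subgroup.commutator_le]
        intro p _ q _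
        rw [MonoidHom.mem_ker, map_commutatorElement, commutatorElement_eq_one_iff_mul_comm]
        rcases hcase p with h | h <;> show p⁻¹ * f p * e q = e q * (p⁻¹ * f p) <;> rw [h]
        · simp
        · rw [inv_mul_cancel_left, tX_comm]
      exact MonoidHom.mem_ker.mp (hle (perfect_subX ▸ Subgroup.mem_top x))
    refine c.mem_K.mpr fun x => ?_
    have hx := hf x
    rw [show f x = x from (inv_mul_eq_one.mp (he x)).symm, mul_inv_eq_iff_eq_mul] at hx
    exact hx.symm
  · intro hk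
    exact c.sig_unique hn fun x x' h => by
      rw [← c.mem_K.mp hk x, mul_inv_cancel_right] at h
      rw [one_mul, inv_one, mul_one, c.inj h]

/-- The action as a homomorphism. -/
noncomputable def sigH : c.N →* Perm (Fin 11) :=
  MonoidHom.mk' (fun n => c.sig n) fun a b => c.sig_mul a.2 b.2

theorem commute_sig {a b : G} (ha : a ∈ c.N) (hb : b ∈ c.N) (h : a * b = b * a) :
    c.sig a * c.sig b = c.sig b * c.sig a := by rw [← c.sig_mul ha hb, h, c.sig_mul hb ha]

end Ctx

end CfsgLib.LyStd
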