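import Cfsg.Agent.Lib.LyStd.Lists

/-!
The finite checks.
-/

set_option autoImplicit false
set_option maxRecDepth 100000
set_option maxHeartbeats 0
set_option Elab.async false

namespace CfsgLib.LyStd

open Equiv CfsgLib.LyRecog

/-- the three-cycle and its inverse -/
def cL : List ℕ := [0, 1, 2, 3, 4, 5, 6, 7, 9, 10, 8]

/-- the inverse of the three-cycle -/
def cL' : List ℕ := [0, 1, 2, 3, 4, 5, 6, 7, 10, 8, 9]

/-- one of the powers of the three-cycle -/
def inC (r : List ℕ) : Bool := beqL r oneL || beqL r cL || beqL r cL'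

/-- a conjugate -/
def conjY (q : List ℕ) (s : ℕ) : List ℕ :=
  mulL (pathL (yPaths.getD s [])) (mulL q (yInv.getD s []))

/-- an involution other than `W` -/
def invol (l : List ℕ) : Bool := beqL (mulL l l) oneL && !beqL l oneL && !beqL l wL

/-- a certificate for a candidate -/
def okC (q : List ℕ) (w : ℕ × List ℕ × ℕ) : Bool :=
  bif Nat.beq w.1 0 then beqL q oneL || beqL q wL
  else bif Nat.beq w.1 1 then
    w.2.1.all (fun s => Nat.blt s 13) && invol (pwL w.2.2 (w.2.1.foldl (fun p s => mulL p (conjY q s)) q))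
  else bif Nat.beq w.1 2 then beqL (pwL 4 q) cL || beqL (pwL 4 q) cL'
  else
    let r := pwL 3 q
    beqL (mulL r r) wL && threes.all fun t => !beqL (mulL t r) (mulL r t) || inC t

/-- the certificates -/
def wits : ℕ → List (ℕ × List ℕ × ℕ)
  | 0 => wit0
  | 1 => wit1
  | 2 => wit2
  | 3 => wit3
  | 4 => wit4
  | 5 => wit5
  | 6 => wit6
  | _ => wit7

/-- the check of a piece -/
def okPiece (k : ℕ) : Bool :=
  ((((cands.drop (288 * k)).take 288).zip (wits k)).all fun p => okC p.1 p.2) &&
    Nat.beq (wits k).length 288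

theorem chk0 : okPiece 0 = true := by decide +kernel
theorem chk1 : okPiece 1 = true := by decide +kernel
theorem chk2 : okPiece 2 = true := by decide +kernel
theorem chk3 : okPiece 3 = true := by decide +kernel
theorem chk4 : okPiece 4 = true := by decide +kernel
theorem chk5 : okPiece 5 = true := by decide +kernel
theorem chk6 : okPiece 6 = true := by decide +kernel
theorem chk7 : okPiece 7 = true := by decide +kernel

theorem chk_len : cands.length = 2304 := by decide +kernel

theorem chk_threes : (cands.all fun q => !beqL (mulL q (mulL q q)) oneL || threes.any fun t => beqL q t) = true := by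
  decide +kernel

theorem chk_y : ∀ s < 13, (∀ g ∈ yPaths.getD s [], g < 3) ∧ (∀ x : Fin 11, (yInv.getD s []).getD x.1 0 < 11) ∧
    beqL (mulL (pathL (yPaths.getD s [])) (yInv.getD s [])) oneL = true := by
  decide +kernel

theorem chk_move : (cands.all fun q => !invol q || moveS.any fun m =>
    beqL (mulL (sL m) q) (mulL q (sL m)) && !beqL (mulL (sL m) wL) (mulL wL (sL m))) = true := by
  decide +kernel

theorem chk_moveS : ∀ m ∈ moveS, (∀ t ∈ m, t.1 ≠ t.2) ∧ Nat.beq (m.length % 2) 0 = true ∧
    beqL (mulL (sL m) (mulL (sL m) (sL m))) oneL = true := by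
  decide +kernel

/-- a set of products of transpositions, each a commutator of two of them -/
def okS (S : List (List (Fin 11 × Fin 11))) (I : List (ℕ × ℕ)) (τ : List (List (Fin 11 × Fin 11))) : Bool :=
  Nat.beq S.length I.length && (S.zip I).all fun p =>
    Nat.blt p.2.1 S.length && Nat.blt p.2.2 S.length &&
    beqL (mulL (sL p.1) (mulL (sL (S.getD p.2.2 [])) (sL (S.getD p.2.1 []))))
      (mulL (sL (S.getD p.2.1 [])) (sL (S.getD p.2.2 []))) &&
    (p.1.all fun t => !Nat.beq t.1.1 t.2.1) && Nat.beq (p.1.length % 2) 0 &&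
    τ.all fun t => beqL (mulL (sL p.1) (sL t)) (mulL (sL t) (sL p.1))

/-- the representatives of the classes commuting with the five points -/
def fiveT : List (List (Fin 11 × Fin 11)) :=
  [[(5, 6)], [(5, 6), (7, 8)], [(5, 6), (7, 8), (9, 10)], [(8, 9), (9, 10)], [(8, 10), (10, 9)]]

/-- five disjoint transpositions -/
def pairT : List (List (Fin 11 × Fin 11)) := [[(0, 1), (2, 3), (4, 5), (6, 7), (8, 9)]]

theorem chk_five : okS fiveS fiveI fiveT = true := by decide +kernel

theorem chk_pair : okS pairS pairI pairT = true := by decide +kernel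

theorem chk_reps : (∀ t : List (Fin 11 × Fin 11), (t = [(5, 6)] ∨ t = [(5, 6), (7, 8)] ∨
      t = [(5, 6), (7, 8), (9, 10)] ∨ t = [(0, 1), (2, 3), (4, 5), (6, 7), (8, 9)]) →
      beqL (mulL (sL t) (sL t)) oneL = true ∧ (sP t).support.card = 2 * t.length) ∧
    (∃ m ∈ fiveS, beqL (mulL (sL m) (sL m)) oneL = true ∧ (sP m).support.card = 4) ∧
    (∃ m ∈ pairS, beqL (mulL (sL m) (sL m)) oneL = true ∧ (sP m).support.card = 4) ∧
    beqL (sL [(8, 9), (9, 10)]) cL = true ∧ beqL (mulL cL cL) cL' = true ∧
    beqL (mulL cL cL') oneL = true := by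
  refine ⟨?_, ?_, ?_, ?_, ?_, ?_⟩
  · rintro t (rfl | rfl | rfl | rfl) <;> decide +kernel
  all_goals decide +kernel

end CfsgLib.LyStd
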