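import Cfsg.Agent.Lib.LyStd.Fuse
import Cfsg.Agent.Lib.LyRecog.Exists

/-!
The centraliser of the copy is a group of order two times an odd group normalised by an element exchanging
the central involution with `W`.
-/

set_option autoImplicit false
set_option linter.style.haveILetI false
set_option maxRecDepth 100000

open scoped commutatorElement

namespace CfsgLib.LyStd

open Equiv CfsgLib.CosetEnum CfsgLib.LyPres CfsgLib.LyCent CfsgLib.LyCent.Fus CfsgLib.LyCent.Out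
  CfsgLib.LyRecog M16

universe u

theorem gWord_comm : ∀ g < 3, beqM (evL [.w (gWords.getD g []), .w (yWords.getD 0 [])])
    (evL [.w (yWords.getD 0 []), .w (gWords.getD g [])]) = true := by decide +kernel

/-- The words of the conjugators commute with `W`. -/
theorem yWord_comm (l : List ℕ) (hl : ∀ g ∈ l, g < 3) :
    prodW yN (l.flatMap fun g => gWords.getD g []) * xW 0 =
      xW 0 * prodW yN (l.flatMap fun g => gWords.getD g []) := by
  induction l with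
  | nil => simp
  | cons g l ih =>
    rw [List.flatMap_cons, prodW_append]
    have e := eq_of_evL (gWord_comm g (hl g List.mem_cons_self))
    simp only [valL_cons, valL_nil, mul_one, valA] at e
    have hi := ih fun x hx => hl x (List.mem_cons_of_mem _ hx)
    exact (Commute.mul_left (show Commute _ (xW 0) from e) (show Commute _ (xW 0) from hi)).eq

/-- An element of order three lifts uniquely to one of order three. -/
theorem exists_lift_cube {s : Perm (Fin 11)} (hs : Perm.sign s = 1) (h3 : s * s * s = 1) :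
    ∃ x : subX, piX x = s ∧ x * x * x = 1 := by
  obtain ⟨xl, hxl⟩ := exists_lift hs
  refine ⟨xl ^ 4, ?_, ?_⟩
  · rw [map_pow, hxl, show s ^ 4 = s * s * s * s by simp [pow_succ], h3, one_mul]
  · have e : piX (xl ^ 3) = 1 := by rw [map_pow, hxl, show s ^ 3 = s * s * s by simp [pow_succ], h3]
    have h6 : xl ^ 6 = 1 := by
      rw [show 6 = 3 + 3 by rfl, pow_add]
      rcases piX_eq_one.mp e with e | e <;> rw [e]
      · exact one_mul _
      · exact tX_sq
    rw [← pow_add, ← pow_add, show 4 + 4 + 4 = 6 + 6 by rfl, pow_add, h6, one_mul]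

/-- Such lifts commute with what their images commute with. -/
theorem commute_lift {x u : subX} (h3 : x * x * x = 1) (h : piX x * piX u = piX u * piX x) :
    u * x = x * u :=
  commute_three piA_ker (by rw [← map_mul, ← map_mul, h3, map_one])
    (Subtype.ext (by rw [Subgroup.coe_mul, Subgroup.coe_mul]; exact h))

/-- the three-cycle of pairs -/
def bP : Perm (Fin 11) := sP [(0, 2), (2, 4), (1, 3), (3, 5)]

theorem bc_facts : Perm.sign bP = 1 ∧ Perm.sign cP = 1 ∧ bP * bP * bP = 1 ∧ cP * cP * cP = 1 ∧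
    bP * pW 0 = pW 0 * bP ∧ cP * pW 0 = pW 0 * cP ∧ bP * cP = cP * bP ∧ cP ≠ 1 ∧ bP ≠ 1 ∧
    cP * bP ≠ 1 ∧ cP * (bP * bP) ≠ 1 ∧ cP⁻¹ ≠ 1 ∧ cP⁻¹ * pW 0 = pW 0 * cP⁻¹ := by
  decide +kernel

/-- An odd subgroup normalised by the alternating group is trivial. -/
theorem odd_normalised_trivial {Q : Subgroup (Perm (Fin 11))} (hQ : Odd (Nat.card Q))
    (hn : ∀ a : Perm (Fin 11), Perm.sign a = 1 → ∀ q ∈ Q, a * q * a⁻¹ ∈ Q) : Q = ⊥ := by
  haveI : IsSimpleGroup (alternatingGroup (Fin 11)) := alternatingGroup.isSimpleGroup (by simp)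
  set A := alternatingGroup (Fin 11)
  haveI : (Q.subgroupOf A).Normal := ⟨fun n hn' a => hn a.1 (Perm.mem_alternatingGroup.mp a.2) n.1 hn'⟩
  rcases Subgroup.Normal.eq_bot_or_eq_top (inferInstance : (Q.subgroupOf A).Normal) with h | h
  · rw [Subgroup.eq_bot_iff_forall]
    intro q hq
    refine eq_one_of_commute_alt fun a ha => ?_
    have hc : a * q * a⁻¹ * q⁻¹ = 1 := by
      have hm : a * q * a⁻¹ * q⁻¹ ∈ Q := Q.mul_mem (hn a ha q hq) (Q.inv_mem hq)
      have hA : a * q * a⁻¹ * q⁻¹ ∈ A := by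
        rw [Perm.mem_alternatingGroup, map_mul, map_mul, map_mul, map_inv, map_inv, ha]
        simp [Int.units_mul_self]
      have : (⟨_, hA⟩ : A) ∈ Q.subgroupOf A := hm
      rw [h, Subgroup.mem_bot] at this
      exact congrArg Subtype.val this
    rw [mul_inv_eq_one, mul_inv_eq_iff_eq_mul] at hc
    exact hc.symm
  · exfalso
    obtain ⟨w, -, -⟩ : ∃ w : subX, True ∧ True := ⟨1, trivial, trivial⟩
    have hW : pW 0 ∈ Q := Subgroup.subgroupOf_eq_top.mp h (piX_W ▸ (piA (xW 0)).2)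
    have h2 := Subgroup.orderOf_dvd_natCard Q hW
    rw [orderOf_eq_prime (by rw [pow_two, pW_facts.1]) pW_facts.2.1] at h2
    exact (Nat.not_even_iff_odd.mpr hQ) (even_iff_two_dvd.mpr h2)

namespace Ctx

variable {G : Type u} [Group G] (c : Ctx G) [Finite G]

/-- The central involution is fused in its centraliser. -/
theorem exists_fused [IsSimpleGroup G] : ∃ h : G, h * c.z * h⁻¹ ∈ c.N ∧ h * c.z * h⁻¹ ≠ c.z := by
  by_contra hcon
  push Not at hcon
  have hiso : Cfsg.IsIsolatedInvolution c.z :=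
    ⟨c.orderOf_z, fun h hh => hcon h (c.mem_N.mpr hh.eq.symm)⟩
  have hco := ZStar.commutatorsInCore_of_isolated hiso
  rcases Subgroup.Normal.eq_bot_or_eq_top (Transfer.pPrimeCore_normal 2 G) with h | h
  · have hcen : ∀ w, w * c.z = c.z * w := fun w => by
      have h1 := hco w
      rw [h, Subgroup.mem_bot, mul_inv_eq_one, mul_inv_eq_iff_eq_mul] at h1
      exact h1.symm
    have hzc : c.z ∈ Subgroup.center G := Subgroup.mem_center_iff.mpr hcen
    have htop : Subgroup.center G = ⊤ :=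
      (Subgroup.Normal.eq_bot_or_eq_top inferInstance).resolve_left fun hb => by
        rw [hb, Subgroup.mem_bot] at hzc
        exact c.z_ne hzc
    have hle : commutator subX ≤ c.ι.ker := by
      rw [commutator_def, Subgroup.commutator_le]
      intro p _ q _
      rw [MonoidHom.mem_ker, map_commutatorElement, commutatorElement_eq_one_iff_mul_comm]
      exact Subgroup.mem_center_iff.mp (htop ▸ Subgroup.mem_top (c.ι q)) (c.ι p)
    exact c.z_ne (MonoidHom.mem_ker.mp (hle (perfect_subX ▸ Subgroup.mem_top tX)))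
  · have hodd : Odd (Nat.card (Cfsg.pPrimeCore 2 G)) := ZStar.odd_card_core
    rw [h, Subgroup.card_top] at hodd
    exact (Nat.not_even_iff_odd.mpr hodd) (even_iff_two_dvd.mpr (c.orderOf_z ▸ orderOf_dvd_natCard c.z))

/-- Some element carries `z` to `W`. -/
theorem exists_g [IsSimpleGroup G] : ∃ g : G, g⁻¹ * c.z * g = c.ι (xW 0) := by
  obtain ⟨h, hN, h1⟩ := c.exists_fused
  obtain ⟨hN', h1'⟩ := c.conj_inv_props hN h1
  obtain ⟨x, hx⟩ := c.conj_mem hN' h1'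
  refine ⟨h * (c.ι x)⁻¹, ?_⟩
  calc (h * (c.ι x)⁻¹)⁻¹ * c.z * (h * (c.ι x)⁻¹) = c.ι x * (h⁻¹ * c.z * h⁻¹⁻¹) * (c.ι x)⁻¹ := by group
    _ = c.ι (xW 0) := by
      rw [hx, ← map_inv, ← map_mul, ← map_mul]
      congr 1
      group

variable {g : G} (hg : g⁻¹ * c.z * g = c.ι (xW 0))
include hg

theorem g_props : g * c.z * g⁻¹ ∈ c.N ∧ g * c.z * g⁻¹ ≠ c.z := by
  have hN : g⁻¹ * c.z * g⁻¹⁻¹ ∈ c.N := by rw [inv_inv, hg]; exact c.iota_mem_N _
  have h1 : g⁻¹ * c.z * g⁻¹⁻¹ ≠ c.z := fun e => by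
    rw [inv_inv, hg] at e
    have h2 := congrArg c.sig e
    rw [c.sig_iota, c.sig_z, piX_W] at h2
    exact pW_facts.2.1 h2
  have := c.conj_inv_props hN h1
  rwa [inv_inv] at this

theorem g_conj_W : g * c.ι (xW 0) * g⁻¹ = c.z := by rw [← hg]; group

theorem conj_mem_N {k : G} (hk : k ∈ c.K) : g⁻¹ * k * g ∈ c.N ∧
    g⁻¹ * k * g * c.ι (xW 0) = c.ι (xW 0) * (g⁻¹ * k * g) := by
  obtain ⟨x, hx⟩ := c.conj_mem (c.g_props hg).1 (c.g_props hg).2
  refine ⟨c.mem_N.mpr ?_, ?_⟩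
  · calc g⁻¹ * k * g * c.z = g⁻¹ * (k * (g * c.z * g⁻¹)) * g := by group
      _ = g⁻¹ * ((g * c.z * g⁻¹) * k) * g := by rw [hx, c.mem_K.mp hk]
      _ = c.z * (g⁻¹ * k * g) := by group
  · rw [← hg]
    calc g⁻¹ * k * g * (g⁻¹ * c.z * g) = g⁻¹ * (k * c.z) * g := by group
      _ = g⁻¹ * (c.z * k) * g := by rw [c.mem_N.mp (c.K_le_N hk)]
      _ = _ := by group

/-- the permutation of a conjugate of an element of `K` -/
theorem mu_mul {a b : G} (ha : a ∈ c.K) (hb : b ∈ c.K) :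
    c.sig (g⁻¹ * (a * b) * g) = c.sig (g⁻¹ * a * g) * c.sig (g⁻¹ * b * g) := by
  rw [← c.sig_mul (c.conj_mem_N hg ha).1 (c.conj_mem_N hg hb).1]
  congr 1
  group

theorem mu_pow {a : G} (ha : a ∈ c.K) (n : ℕ) : c.sig (g⁻¹ * a ^ n * g) = c.sig (g⁻¹ * a * g) ^ n := by
  rw [← c.sig_pow (c.conj_mem_N hg ha).1]
  congr 1
  rw [show g⁻¹ * a * g = MulAut.conj g⁻¹ a by simp, ← map_pow]
  simp

/-- An involution of `K` is `z`. -/
theorem K_invol {u : G} (hu : u ∈ c.K) (h2 : orderOf u = 2) : u = c.z := by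
  obtain ⟨x, hx⟩ := c.conj_mem (c.g_props hg).1 (c.g_props hg).2
  exact c.invol_K_eq (c.g_props hg).1 (c.g_props hg).2 hu h2 (by rw [hx, c.mem_K.mp hu])

/-- An element of `K` acting on the other side by a permutation centralising a perfect set acts trivially
there. -/
theorem mu_no_perfect {k : G} (hk : k ∈ c.K) (hμ : HasPerfectSet (c.sig (g⁻¹ * k * g)))
    (h1 : c.sig (g⁻¹ * k * g) ≠ 1) : False := by
  obtain ⟨hwN, hw1⟩ := c.g_props hg
  set w := g * c.z * g⁻¹ with hw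
  obtain ⟨yw, hyw⟩ := c.conj_mem hwN hw1
  set T := Subgroup.centralizer ({k} : Set G) with hT
  have hLT : ∀ x, c.ι x ∈ T := fun x =>
    Subgroup.mem_centralizer_singleton_iff.mpr (c.mem_K.mp hk x)
  have hzT : c.z ∈ T := hLT tX
  let zT : T := ⟨c.z, hzT⟩
  have hiso : Cfsg.IsIsolatedInvolution zT := by
    refine ⟨by rw [← Subgroup.orderOf_coe]; exact c.orderOf_z, fun t ht => ?_⟩
    by_contra hne
    have hN1 : (t : G) * c.z * (t : G)⁻¹ ∈ c.N := c.mem_N.mpr (congrArg Subtype.val ht.eq).symm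
    have hne1 : (t : G) * c.z * (t : G)⁻¹ ≠ c.z := fun e => hne (Subtype.ext e)
    obtain ⟨x, hx⟩ := c.conj_mem hN1 hne1
    set t' := c.ι (yw⁻¹ * x) * (t : G) with ht'
    have ht'T : t' ∈ T := T.mul_mem (hLT _) t.2
    have e : t' * c.z * t'⁻¹ = w := by
      calc t' * c.z * t'⁻¹ = c.ι (yw⁻¹ * x) * ((t : G) * c.z * (t : G)⁻¹) * (c.ι (yw⁻¹ * x))⁻¹ := by
            rw [ht']; group
        _ = w := by
            rw [hx, hw, hyw, ← map_inv, ← map_mul, ← map_mul]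
            congr 1
            group
    have hn : g⁻¹ * t' ∈ c.N := c.mem_N.mpr (by
      calc g⁻¹ * t' * c.z = g⁻¹ * (t' * c.z * t'⁻¹) * t' := by group
        _ = g⁻¹ * (g * c.z * g⁻¹) * t' := by rw [e]
        _ = _ := by group)
    have hck : t' * k = k * t' := Subgroup.mem_centralizer_singleton_iff.mp ht'T
    have hK : g⁻¹ * k * g ∈ c.K := by
      have := c.conj_K hn hk
      rwa [show g⁻¹ * t' * k * (g⁻¹ * t')⁻¹ = g⁻¹ * (t' * k) * t'⁻¹ * g by group, hck,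
        show g⁻¹ * (k * t') * t'⁻¹ * g = g⁻¹ * k * g by group] at this
    exact h1 ((c.sig_eq_one_iff (c.conj_mem_N hg hk).1).mpr hK)
  have hco := ZStar.commutatorsInCore_of_isolated hiso
  haveI := Transfer.pPrimeCore_normal 2 T
  set O := Cfsg.pPrimeCore 2 T with hO
  have hoddO : Odd (Nat.card O) := ZStar.odd_card_core
  have hdec : ∀ t : T, ∃ a : T, (a : G) ∈ c.N ∧ t⁻¹ * a ∈ O := by
    intro t
    set x := t * zT * t⁻¹ * zT⁻¹ with hx
    have hxO : x ∈ O := by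
      have h := O.inv_mem (hco t)
      rwa [show (zT * t * zT⁻¹ * t⁻¹)⁻¹ = x by rw [hx]; group] at h
    have hzz : zT⁻¹ = zT := inv_eq_of_mul_eq_one_left (Subtype.ext c.z_sq)
    have hinv : zT * x * zT⁻¹ = x⁻¹ := by
      rw [hx]
      calc zT * (t * zT * t⁻¹ * zT⁻¹) * zT⁻¹ = zT * (t * zT * t⁻¹) * (zT * zT)⁻¹ := by group
        _ = zT * (t * zT * t⁻¹) := by
          rw [show zT * zT = 1 from Subtype.ext c.z_sq, inv_one, mul_one]
        _ = (t * zT⁻¹ * t⁻¹ * zT⁻¹)⁻¹ := by group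
        _ = _ := by rw [hzz]
    obtain ⟨m, hm⟩ : ∃ m, x ^ (2 * m) = x := by
      have hox : Odd (orderOf x) := Odd.of_dvd_nat hoddO (Subgroup.orderOf_dvd_natCard _ hxO)
      obtain ⟨j, hj⟩ := hox
      exact ⟨j + 1, by rw [show 2 * (j + 1) = orderOf x + 1 by omega, pow_succ, pow_orderOf_eq_one, one_mul]⟩
    set y := x ^ m with hy
    refine ⟨y⁻¹ * t, ?_, ?_⟩
    · have hyz : y * zT * y⁻¹ = t * zT * t⁻¹ := by
        have e1 : zT * y * zT⁻¹ = y⁻¹ := by
          rw [hy, ← MulAut.conj_apply, map_pow, MulAut.conj_apply, hinv, inv_pow]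
        calc y * zT * y⁻¹ = y * zT * (zT * y * zT⁻¹) := by rw [e1]
          _ = y * (zT * zT) * y * zT⁻¹ := by group
          _ = x ^ (2 * m) * zT⁻¹ := by
            rw [show zT * zT = 1 from Subtype.ext c.z_sq, mul_one, two_mul, pow_add]
          _ = _ := by rw [hm, hx, show t * zT * t⁻¹ * zT⁻¹ * zT⁻¹ = t * zT * t⁻¹ * (zT * zT)⁻¹ by group,
              show zT * zT = 1 from Subtype.ext c.z_sq, inv_one, mul_one]
      refine c.mem_N.mpr (congrArg Subtype.val (show y⁻¹ * t * zT = zT * (y⁻¹ * t) from ?_))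
      calc y⁻¹ * t * zT = y⁻¹ * (t * zT * t⁻¹) * t := by group
        _ = _ := by rw [← hyz]; group
    · exact (inferInstance : O.Normal).conj_mem' _ (O.inv_mem (O.pow_mem hxO m)) t |> fun h => by
        rwa [show t⁻¹ * (y⁻¹ * t) = t⁻¹ * y⁻¹ * t by group]
  have htriv : ∀ o : T, o ∈ O → (o : G) ∈ c.N → c.sig (o : G) = 1 := by
    set Q := ((O.map T.subtype).subgroupOf c.N).map c.sigH with hQ
    have hbot : Q = ⊥ := by
      refine odd_normalised_trivial (Odd.of_dvd_nat hoddO ?_) ?_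
      · refine (Subgroup.card_map_dvd _ _).trans ?_
        rw [← Subgroup.card_map_of_injective c.N.subtype_injective, Subgroup.subgroupOf_map_subtype]
        refine (Subgroup.card_dvd_of_le inf_le_left).trans ?_
        rw [Subgroup.card_map_of_injective T.subtype_injective]
      · rintro a ha _ ⟨⟨o, hoN⟩, ⟨o', ho', rfl⟩, rfl⟩
        obtain ⟨x, rfl⟩ := exists_lift ha
        refine ⟨⟨c.ι x * (o' : G) * (c.ι x)⁻¹,
          c.N.mul_mem (c.N.mul_mem (c.iota_mem_N x) hoN) (c.N.inv_mem (c.iota_mem_N x))⟩,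
          ⟨⟨c.ι x, hLT x⟩ * o' * ⟨c.ι x, hLT x⟩⁻¹, (inferInstance : O.Normal).conj_mem _ ho' _, rfl⟩, ?_⟩
        show c.sig (c.ι x * T.subtype o' * (c.ι x)⁻¹) = piX x * c.sig (T.subtype o') * (piX x)⁻¹
        rw [c.sig_mul (c.N.mul_mem (c.iota_mem_N x) hoN) (c.N.inv_mem (c.iota_mem_N x)),
          c.sig_mul (c.iota_mem_N x) hoN, c.sig_inv (c.iota_mem_N x), c.sig_iota]
    intro o ho hoN
    have hm : c.sigH ⟨(o : G), hoN⟩ ∈ Q := ⟨_, ⟨o, ho, rfl⟩, rfl⟩
    rw [hbot, Subgroup.mem_bot] at hm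
    exact hm
  choose A hAN hAO using hdec
  have hA : ∀ t a : T, (a : G) ∈ c.N → t⁻¹ * a ∈ O → c.sig (A t : G) = c.sig (a : G) := by
    intro t a haN haO
    have h := htriv ((A t)⁻¹ * a)
      (by rw [show (A t)⁻¹ * a = (t⁻¹ * A t)⁻¹ * (t⁻¹ * a) by group]; exact O.mul_mem (O.inv_mem (hAO t)) haO)
      (c.N.mul_mem (c.N.inv_mem (hAN t)) haN)
    rw [Subgroup.coe_mul, Subgroup.coe_inv, c.sig_mul (c.N.inv_mem (hAN t)) haN, c.sig_inv (hAN t),
      inv_mul_eq_one] at h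
    exact h
  let ψ : T →* Perm (Fin 11) := MonoidHom.mk' (fun t => c.sig (A t : G)) fun s t => by
    rw [← c.sig_mul (hAN s) (hAN t), ← Subgroup.coe_mul]
    refine hA _ _ (c.N.mul_mem (hAN s) (hAN t)) ?_
    rw [show (s * t)⁻¹ * (A s * A t) = t⁻¹ * (s⁻¹ * A s) * t * (t⁻¹ * A t) by group]
    exact O.mul_mem ((inferInstance : O.Normal).conj_mem' _ (hAO s) t) (hAO t)
  -- the perfect group
  obtain ⟨hkN, -⟩ := c.conj_mem_N hg hk
  obtain ⟨X, hX, d, hd, hd2, hd4⟩ := hμ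
  obtain ⟨R, hR, hzR, hRdef⟩ := exists_perfect_lift (fun s hs => ⟨(hX s hs).1, (hX s hs).2.2⟩) hd hd2 hd4
  have hcomm := c.commute_perfect hkN (fun s hs => (hX s hs).2.1) hRdef
  have hRT : ∀ r : R, g * c.ι r * g⁻¹ ∈ T := fun r => Subgroup.mem_centralizer_singleton_iff.mpr (by
    calc g * c.ι r * g⁻¹ * k = g * (c.ι r * (g⁻¹ * k * g)) * g⁻¹ := by group
      _ = g * ((g⁻¹ * k * g) * c.ι r) * g⁻¹ := by rw [hcomm r r.2]
      _ = _ := by group)
  let θ : R →* T := MonoidHom.codRestrict ((MulAut.conj g).toMonoidHom.comp (c.ι.comp R.subtype)) T hRT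
  set Pψ := (ψ.comp θ).range with hPψ
  have hperf : ⁅Pψ, Pψ⁆ = Pψ := by
    have hcR : (⁅(⊤ : Subgroup R), ⊤⁆ : Subgroup R) = ⊤ := Subgroup.map_injective R.subtype_injective
      (by rw [Subgroup.map_commutator, ← MonoidHom.range_eq_map, Subgroup.range_subtype, hR])
    rw [hPψ, MonoidHom.range_eq_map, ← Subgroup.map_commutator, hcR]
  have hwT : w ∈ T := hRT ⟨tX, hzR⟩
  have hψw : ψ ⟨w, hwT⟩ = c.sig w := hA ⟨w, hwT⟩ ⟨w, hwT⟩ hwN (by rw [inv_mul_cancel]; exact O.one_mem)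
  refine not_mem_perfect (τ := c.sig w) (c.sig_conj_z hwN hw1).1 (c.sig_conj_z hwN hw1).2 hperf ?_
    ⟨⟨tX, hzR⟩, hψw⟩
  rintro _ ⟨r, rfl⟩
  rw [← hψw, MonoidHom.comp_apply, ← map_mul, ← map_mul]
  congr 1
  refine Subtype.ext ?_
  show MulAut.conj g (c.ι r) * MulAut.conj g c.z = MulAut.conj g c.z * MulAut.conj g (c.ι r)
  rw [← map_mul, ← map_mul, z, ← map_mul, ← map_mul, tX_comm]

/-- the image of `K` on the other side -/
theorem mu_classify {k : G} (hk : k ∈ c.K) :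
    c.sig (g⁻¹ * k * g) = 1 ∨ c.sig (g⁻¹ * k * g) = pW 0 ∨
      (c.sig (g⁻¹ * k * g) ^ 3 * c.sig (g⁻¹ * k * g) ^ 3 = pW 0 ∧
        ∀ r : Perm (Fin 11), r * pW 0 = pW 0 * r → r * r * r = 1 →
          r * c.sig (g⁻¹ * k * g) ^ 3 = c.sig (g⁻¹ * k * g) ^ 3 * r → r = 1 ∨ r = cP ∨ r = cP⁻¹) := by
  let f : c.K →* Perm (Fin 11) :=
    MonoidHom.mk' (fun a => c.sig (g⁻¹ * (a : G) * g)) fun a b => c.mu_mul hg a.2 b.2
  have hfW : ∀ x ∈ f.range, x * pW 0 = pW 0 * x := by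
    rintro _ ⟨a, rfl⟩
    have h := c.commute_sig (c.conj_mem_N hg a.2).1 (c.iota_mem_N _) (c.conj_mem_N hg a.2).2
    rw [c.sig_iota, piX_W] at h
    exact h
  have hinv : ∀ x ∈ f.range, x * x = 1 → x ≠ 1 → x = pW 0 := by
    rintro _ ⟨⟨a, ha⟩, rfl⟩ h2 h1
    obtain ⟨e, m, hm, hord⟩ := Nat.exists_eq_two_pow_mul_odd (n := orderOf a) (orderOf_pos a).ne'
    have hfa : f ⟨a, ha⟩ = c.sig (g⁻¹ * a * g) := rfl
    rw [hfa] at h1 h2 ⊢
    have hb : c.sig (g⁻¹ * a ^ m * g) = c.sig (g⁻¹ * a * g) := by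
      rw [c.mu_pow hg ha]
      obtain ⟨j, rfl⟩ := hm
      rw [pow_succ, pow_mul, pow_two, h2, one_pow, one_mul]
    have hob : orderOf (a ^ m) = 2 ^ e := by
      rw [orderOf_pow' a (by rintro rfl; simp at hm), hord,
        Nat.gcd_eq_right ⟨2 ^ e, mul_comm _ _⟩, Nat.mul_div_cancel _ hm.pos]
    rcases Nat.eq_zero_or_pos e with rfl | he
    · rw [pow_zero, orderOf_eq_one_iff] at hob
      rw [hob, mul_one, inv_mul_cancel, c.sig_one] at hb
      exact absurd hb.symm h1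
    · obtain ⟨e', rfl⟩ : ∃ e', e = e' + 1 := ⟨e - 1, by omega⟩
      have hb2 : orderOf ((a ^ m) ^ 2 ^ e') = 2 := by
        rw [orderOf_pow' _ (by positivity), hob, Nat.gcd_eq_right (pow_dvd_pow 2 (Nat.le_succ e')), pow_succ,
          Nat.mul_div_cancel_left _ (by positivity)]
      have hz := c.K_invol hg (c.K.pow_mem (c.K.pow_mem ha m) _) hb2
      rcases Nat.eq_zero_or_pos e' with rfl | he'
      · rw [pow_zero, pow_one] at hz
        rw [← hb, hz, hg, c.sig_iota, piX_W]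
      · exfalso
        have h := c.mu_pow hg (c.K.pow_mem ha m) (2 ^ e')
        rw [hz, hb, hg, c.sig_iota, piX_W] at h
        obtain ⟨j, rfl⟩ : ∃ j, e' = j + 1 := ⟨e' - 1, by omega⟩
        rw [pow_succ', pow_mul, pow_two, h2, one_pow] at h
        exact pW_facts.2.1 h
  have hconj : ∀ l : List ℕ, (∀ i ∈ l, i < 3) → ∀ x ∈ f.range, yPerm l * x * (yPerm l)⁻¹ ∈ f.range := by
    rintro l hl _ ⟨⟨a, ha⟩, rfl⟩
    set y := prodW yN (l.flatMap fun i => gWords.getD i []) with hy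
    have hyW : c.ι y * c.ι (xW 0) = c.ι (xW 0) * c.ι y := by
      rw [← map_mul, ← map_mul, yWord_comm l hl]
    have hn : g * c.ι y * g⁻¹ ∈ c.N := c.mem_N.mpr (by
      conv_lhs => rw [← c.g_conj_W hg]
      conv_rhs => rw [← c.g_conj_W hg]
      calc g * c.ι y * g⁻¹ * (g * c.ι (xW 0) * g⁻¹) = g * (c.ι y * c.ι (xW 0)) * g⁻¹ := by group
        _ = g * (c.ι (xW 0) * c.ι y) * g⁻¹ := by rw [hyW]
        _ = _ := by group)
    refine ⟨⟨_, c.conj_K hn ha⟩, ?_⟩
    show c.sig (g⁻¹ * (g * c.ι y * g⁻¹ * a * (g * c.ι y * g⁻¹)⁻¹) * g) = yPerm l * c.sig (g⁻¹ * a * g) * (yPerm l)⁻¹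
    rw [show g⁻¹ * (g * c.ι y * g⁻¹ * a * (g * c.ι y * g⁻¹)⁻¹) * g = c.ι y * (g⁻¹ * a * g) * (c.ι y)⁻¹ by group,
      c.sig_mul (c.N.mul_mem (c.iota_mem_N y) (c.conj_mem_N hg ha).1) (c.N.inv_mem (c.iota_mem_N y)),
      c.sig_mul (c.iota_mem_N y) (c.conj_mem_N hg ha).1, c.sig_inv (c.iota_mem_N y), c.sig_iota, hy,
      piX_prodW]
    rfl
  rcases classify hfW hinv hconj (q := c.sig (g⁻¹ * k * g)) ⟨⟨k, hk⟩, rfl⟩ with h | h | h | h | h
  · exact Or.inl h
  · exact Or.inr (Or.inl h)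
  · rw [← c.mu_pow hg hk] at h
    exact (c.mu_no_perfect hg (c.K.pow_mem hk 4) (h ▸ hasPerfectSet_c.1) (h ▸ bc_facts.2.2.2.2.2.2.2.1)).elim
  · rw [← c.mu_pow hg hk] at h
    exact (c.mu_no_perfect hg (c.K.pow_mem hk 4) (h ▸ hasPerfectSet_c.2)
      (h ▸ bc_facts.2.2.2.2.2.2.2.2.2.2.2.1)).elim
  · exact Or.inr (Or.inr h)

/-- The elements of odd order of `K` are carried into `K` by `g`. -/
theorem odd_conj_mem {k : G} (hk : k ∈ c.K) (ho : Odd (orderOf k)) : g⁻¹ * k * g ∈ c.K := by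
  refine (c.sig_eq_one_iff (c.conj_mem_N hg hk).1).mp ?_
  have hodd : c.sig (g⁻¹ * k * g) ^ orderOf k = 1 := by
    rw [← c.mu_pow hg hk, pow_orderOf_eq_one, mul_one, inv_mul_cancel, c.sig_one]
  obtain ⟨j, hj⟩ := ho
  have hW : pW 0 ^ orderOf k = pW 0 := by rw [hj, pow_succ, pow_mul, pow_two, pW_facts.1, one_pow, one_mul]
  rcases c.mu_classify hg hk with h | h | ⟨h, -⟩
  · exact h
  · rw [h, hW] at hodd
    exact absurd hodd pW_facts.2.1
  · exfalso
    rw [← pow_add] at h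
    rw [← h, ← pow_mul, mul_comm, pow_mul, hodd, one_pow] at hW
    exact pW_facts.2.1 (h.symm.trans hW.symm)

/-- `g` permutes the elements of odd order of `K`. -/
theorem exists_conj_odd {e : G} (he : e ∈ c.K) (ho : Odd (orderOf e)) :
    g * e * g⁻¹ ∈ c.K := by
  let S := {k : G // k ∈ c.K ∧ Odd (orderOf k)}
  let f : S → S := fun k => ⟨g⁻¹ * k.1 * g, c.odd_conj_mem hg k.2.1 k.2.2, by
    rw [show g⁻¹ * k.1 * g = MulAut.conj g⁻¹ k.1 by simp, MulEquiv.orderOf_eq]; exact k.2.2⟩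
  have hinj : Function.Injective f := fun a b h =>
    Subtype.ext (mul_left_cancel (mul_right_cancel (congrArg Subtype.val h)))
  obtain ⟨k, hk⟩ := Finite.surjective_of_injective hinj ⟨e, he, ho⟩
  have he' : g⁻¹ * k.1 * g = e := congrArg Subtype.val hk
  rw [← he', show g * (g⁻¹ * k.1 * g) * g⁻¹ = k.1 by group]
  exact k.2.1

/-- An element of `K` acts on the other side trivially or as `W`. -/
theorem mu_cases {k : G} (hk : k ∈ c.K) : c.sig (g⁻¹ * k * g) = 1 ∨ c.sig (g⁻¹ * k * g) = pW 0 := by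
  rcases c.mu_classify hg hk with h | h | ⟨-, hr⟩
  · exact Or.inl h
  · exact Or.inr h
  exfalso
  obtain ⟨yw, hyw⟩ := c.conj_mem (c.g_props hg).1 (c.g_props hg).2
  -- the conjugate of a lift
  have key : ∀ l : subX, l * l * l = 1 → piX l * pW 0 = pW 0 * piX l →
      c.sig (g⁻¹ * c.ι (yw⁻¹ * l * yw) * g) ^ 3 = 1 ∧
      (c.sig (g⁻¹ * c.ι (yw⁻¹ * l * yw) * g) = 1 ∨ c.sig (g⁻¹ * c.ι (yw⁻¹ * l * yw) * g) = cP ∨
        c.sig (g⁻¹ * c.ι (yw⁻¹ * l * yw) * g) = cP⁻¹) ∧ g⁻¹ * c.ι (yw⁻¹ * l * yw) * g ∈ c.N := by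
    intro l h3 hπ
    have hlW : xW 0 * l = l * xW 0 := commute_lift h3 (by rw [piX_W]; exact hπ)
    set x := c.ι (yw⁻¹ * l * yw) with hx
    set e := g⁻¹ * x * g with he
    have hxw : x * (g * c.z * g⁻¹) = g * c.z * g⁻¹ * x := by
      rw [hyw, hx, ← map_mul, ← map_mul]
      congr 1
      calc yw⁻¹ * l * yw * (yw⁻¹ * xW 0 * yw) = yw⁻¹ * (l * xW 0) * yw := by group
        _ = yw⁻¹ * (xW 0 * l) * yw := by rw [hlW]
        _ = _ := by group
    have heN : e ∈ c.N := c.mem_N.mpr (by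
      calc e * c.z = g⁻¹ * (x * (g * c.z * g⁻¹)) * g := by rw [he]; group
        _ = g⁻¹ * (g * c.z * g⁻¹ * x) * g := by rw [hxw]
        _ = _ := by rw [he]; group)
    have heW : e * c.ι (xW 0) = c.ι (xW 0) * e := by
      rw [← hg, he]
      calc g⁻¹ * x * g * (g⁻¹ * c.z * g) = g⁻¹ * (x * c.z) * g := by group
        _ = g⁻¹ * (c.z * x) * g := by rw [hx, c.mem_N.mp (c.iota_mem_N _)]
        _ = _ := by group
    have hj := c.K.pow_mem hk 3
    have hek : e * (g⁻¹ * k ^ 3 * g) = g⁻¹ * k ^ 3 * g * e := by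
      rw [he]
      calc g⁻¹ * x * g * (g⁻¹ * k ^ 3 * g) = g⁻¹ * (x * k ^ 3) * g := by group
        _ = g⁻¹ * (k ^ 3 * x) * g := by rw [hx, c.mem_K.mp hj]
        _ = _ := by group
    have he3 : e ^ 3 = 1 := by
      rw [he, show g⁻¹ * x * g = MulAut.conj g⁻¹ x by simp, ← map_pow, hx, ← map_pow,
        show yw⁻¹ * l * yw = MulAut.conj yw⁻¹ l by simp, ← map_pow, pow_succ, pow_succ, pow_one, h3]
      simp
    have h1 : c.sig e ^ 3 = 1 := by rw [← c.sig_pow heN, he3, c.sig_one]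
    refine ⟨h1, hr _ ?_ ?_ ?_, heN⟩
    · have h := c.commute_sig heN (c.iota_mem_N _) heW
      rwa [c.sig_iota, piX_W] at h
    · rw [← h1]; simp [pow_succ]
    · have h := c.commute_sig heN (c.conj_mem_N hg hj).1 hek
      rwa [c.mu_pow hg hk] at h
  obtain ⟨sb, sc, b3, c3, bW, cW, bc, cne, bne, cb, cbb, -, -⟩ := bc_facts
  obtain ⟨lb, hlb, lb3⟩ := exists_lift_cube sb b3
  obtain ⟨lc, hlc, lc3⟩ := exists_lift_cube sc c3
  have hcomm : lb * lc = lc * lb := commute_lift lc3 (by rw [hlb, hlc, bc])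
  obtain ⟨eb3, heb, hebN⟩ := key lb lb3 (by rw [hlb]; exact bW)
  obtain ⟨ec3, hec, hecN⟩ := key lc lc3 (by rw [hlc]; exact cW)
  set eb := g⁻¹ * c.ι (yw⁻¹ * lb * yw) * g with hebd
  set ec := g⁻¹ * c.ι (yw⁻¹ * lc * yw) * g with hecd
  have hmul : ∀ j : ℕ, g⁻¹ * c.ι (yw⁻¹ * (lc * lb ^ j) * yw) * g = ec * eb ^ j := by
    intro j
    have : (fun l => g⁻¹ * c.ι (yw⁻¹ * l * yw) * g) =
        ((MulAut.conj g⁻¹).toMonoidHom.comp (c.ι.comp (MulAut.conj yw⁻¹).toMonoidHom) : subX →* G) := by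
      funext l; simp
    have e := congrFun this
    rw [e, hecd, hebd, e, e, map_mul, map_pow]
  -- a non-trivial one acting trivially
  obtain ⟨l, l3, hπ, hl1, hle⟩ : ∃ l : subX, l * l * l = 1 ∧ piX l * pW 0 = pW 0 * piX l ∧ piX l ≠ 1 ∧
      c.sig (g⁻¹ * c.ι (yw⁻¹ * l * yw) * g) = 1 := by
    have cube : ∀ j : ℕ, lc * lb ^ j * (lc * lb ^ j) * (lc * lb ^ j) = 1 := fun j => by
      have hc : Commute lc (lb ^ j) := (show Commute lc lb from hcomm.symm).pow_right j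
      calc _ = (lc * lb ^ j) ^ 3 := by simp [pow_succ]
        _ = lc ^ 3 * (lb ^ j) ^ 3 := hc.mul_pow 3
        _ = 1 := by
          rw [← pow_mul, mul_comm j, pow_mul, show lb ^ 3 = 1 by simpa [pow_succ] using lb3,
            show lc ^ 3 = 1 by simpa [pow_succ] using lc3, one_pow, one_mul]
    have hsj : ∀ j : ℕ, c.sig (g⁻¹ * c.ι (yw⁻¹ * (lc * lb ^ j) * yw) * g) = c.sig ec * c.sig eb ^ j := fun j => by
      rw [hmul, c.sig_mul hecN (c.N.pow_mem hebN j), c.sig_pow hebN]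
    have hcj : ∀ j : ℕ, piX (lc * lb ^ j) * pW 0 = pW 0 * piX (lc * lb ^ j) := fun j => by
      rw [map_mul, map_pow, hlb, hlc]
      exact ((show Commute cP (pW 0) from cW).mul_left ((show Commute bP (pW 0) from bW).pow_left j)).eq
    have hnj : ∀ j : ℕ, j < 3 → piX (lc * lb ^ j) ≠ 1 := fun j hj => by
      rw [map_mul, map_pow, hlb, hlc]
      interval_cases j
      · rw [pow_zero, mul_one]; exact cne
      · rw [pow_one]; exact cb
      · rw [pow_two]; exact cbb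
    by_cases hb1 : c.sig eb = 1
    · exact ⟨lb, lb3, by rw [hlb]; exact bW, by rw [hlb]; exact bne, hb1⟩
    · have hj : ∃ j < 3, c.sig ec * c.sig eb ^ j = 1 := by
        have hcc : cP * cP = cP⁻¹ := eq_inv_of_mul_eq_one_left c3
        have hic : cP⁻¹ * cP⁻¹ = cP := by rw [← mul_inv_rev, hcc, inv_inv]
        rcases hec with h | h | h <;> rw [h]
        · exact ⟨0, by norm_num, by rw [pow_zero, one_mul]⟩
        all_goals rcases heb with h' | h' | h'
        all_goals first | exact absurd h' hb1 | skip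
        · exact ⟨2, by norm_num, by rw [h', pow_two, ← mul_assoc, c3]⟩
        · exact ⟨1, by norm_num, by rw [h', pow_one, mul_inv_cancel]⟩
        · exact ⟨1, by norm_num, by rw [h', pow_one, inv_mul_cancel]⟩
        · exact ⟨2, by norm_num, by rw [h', pow_two, hic, inv_mul_cancel]⟩
      obtain ⟨j, hj3, hj1⟩ := hj
      exact ⟨lc * lb ^ j, cube j, hcj j, hnj j hj3, by rw [hsj, hj1]⟩
  set x := c.ι (yw⁻¹ * l * yw) with hx
  have heK : g⁻¹ * x * g ∈ c.K := (c.sig_eq_one_iff (key l l3 hπ).2.2).mp hle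
  have hxK : x ∈ c.K := by
    have := c.exists_conj_odd hg heK (by
      rw [show g⁻¹ * x * g = MulAut.conj g⁻¹ x by simp, MulEquiv.orderOf_eq]
      refine Odd.of_dvd_nat (show Odd 3 by decide) (orderOf_dvd_of_pow_eq_one ?_)
      rw [hx, ← map_pow, show yw⁻¹ * l * yw = MulAut.conj yw⁻¹ l by simp, ← map_pow, pow_succ, pow_succ,
        pow_one, l3, map_one, map_one])
    rwa [show g * (g⁻¹ * x * g) * g⁻¹ = x by group] at this
  have h := (c.sig_eq_one_iff (c.K_le_N hxK)).mpr hxK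
  rw [hx, c.sig_iota, map_mul, map_mul, map_inv] at h
  refine hl1 ?_
  calc piX l = piX yw * ((piX yw)⁻¹ * piX l * piX yw) * (piX yw)⁻¹ := by group
    _ = 1 := by rw [h, mul_one, mul_inv_cancel]

/-- the odd part of `K` -/
noncomputable def D (_ : g⁻¹ * c.z * g = c.ι (xW 0)) : Subgroup G :=
  c.K ⊓ c.K.map (MulAut.conj g).toMonoidHom

theorem mem_D {d : G} : d ∈ c.D hg ↔ d ∈ c.K ∧ g⁻¹ * d * g ∈ c.K := by
  rw [D, Subgroup.mem_inf, Subgroup.map_equiv_eq_comap_symm']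
  simp [Subgroup.mem_comap]

theorem D_odd : Odd (Nat.card (c.D hg)) := by
  rw [← Nat.not_even_iff_odd]
  intro hev
  haveI : Fact (Nat.Prime 2) := ⟨Nat.prime_two⟩
  obtain ⟨u, hu⟩ := exists_prime_orderOf_dvd_card' (G := c.D hg) 2 hev.two_dvd
  obtain ⟨h1, h2⟩ := (c.mem_D hg).mp u.2
  rw [← Subgroup.orderOf_coe] at hu
  have hz := c.K_invol hg h1 hu
  rw [hz, hg] at h2
  have h := (c.sig_eq_one_iff (c.iota_mem_N _)).mpr h2
  rw [c.sig_iota, piX_W] at h
  exact pW_facts.2.1 h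

theorem odd_mem_D {k : G} (hk : k ∈ c.K) (ho : Odd (orderOf k)) : k ∈ c.D hg :=
  (c.mem_D hg).mpr ⟨hk, c.odd_conj_mem hg hk ho⟩

theorem orderOf_D {d : G} (hd : d ∈ c.D hg) : Odd (orderOf d) :=
  Odd.of_dvd_nat (c.D_odd hg) (Subgroup.orderOf_dvd_natCard _ hd)

/-- `K = D ∪ zD` -/
theorem K_cases {k : G} (hk : k ∈ c.K) : k ∈ c.D hg ∨ c.z * k ∈ c.D hg := by
  rcases c.mu_cases hg hk with h | h
  · exact Or.inl ((c.mem_D hg).mpr ⟨hk, (c.sig_eq_one_iff (c.conj_mem_N hg hk).1).mp h⟩)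
  · have hzk := c.K.mul_mem c.z_mem_K hk
    refine Or.inr ((c.mem_D hg).mpr ⟨hzk, (c.sig_eq_one_iff (c.conj_mem_N hg hzk).1).mp ?_⟩)
    rw [c.mu_mul hg c.z_mem_K hk, hg, c.sig_iota, piX_W, h, pW_facts.1]

theorem N_normalises_D {n d : G} (hn : n ∈ c.N) (hd : d ∈ c.D hg) : n * d * n⁻¹ ∈ c.D hg :=
  c.odd_mem_D hg (c.conj_K hn ((c.mem_D hg).mp hd).1)
    (by rw [← MulAut.conj_apply, MulEquiv.orderOf_eq]; exact c.orderOf_D hg hd)

theorem g_normalises_D : g ∈ Subgroup.normalizer (c.D hg : Set G) := by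
  refine Subgroup.mem_normalizer_iff.mpr fun d => ⟨fun hd => ?_, fun hd => ?_⟩
  · exact c.odd_mem_D hg (c.exists_conj_odd hg ((c.mem_D hg).mp hd).1 (c.orderOf_D hg hd))
      (by rw [← MulAut.conj_apply, MulEquiv.orderOf_eq]; exact c.orderOf_D hg hd)
  · have h := c.odd_mem_D hg ((c.mem_D hg).mp hd).2
      (by rw [show g⁻¹ * (g * d * g⁻¹) * g = MulAut.conj g⁻¹ (g * d * g⁻¹) by simp, MulEquiv.orderOf_eq]
          exact c.orderOf_D hg hd)
    rwa [show g⁻¹ * (g * d * g⁻¹) * g = d by group] at h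

/-- The elements of 2-power order of `K` are `1` and `z`. -/
theorem K_two_elem {k : G} (hk : k ∈ c.K) {e : ℕ} (he : k ^ 2 ^ e = 1) : k = 1 ∨ k = c.z := by
  have key : ∀ d, d ∈ c.D hg → d ^ 2 ^ e = 1 → d = 1 := fun d hd h => by
    have h1 := orderOf_dvd_of_pow_eq_one h
    exact orderOf_eq_one_iff.mp (Nat.eq_one_of_dvd_coprimes
      (Nat.Coprime.pow_right e (Nat.coprime_two_right.mpr (c.orderOf_D hg hd))) dvd_rfl h1)
  rcases c.K_cases hg hk with h | h
  · exact Or.inl (key k h he)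
  · rcases Nat.eq_zero_or_pos e with rfl | hpos
    · exact Or.inl (by rwa [pow_zero, pow_one] at he)
    refine Or.inr ?_
    have h1 := key _ h (by
      obtain ⟨j, rfl⟩ : ∃ j, e = j + 1 := ⟨e - 1, by omega⟩
      rw [(show Commute c.z k from (c.mem_N.mp (c.K_le_N hk)).symm).mul_pow, he, pow_succ', pow_mul, pow_two,
        c.z_sq, one_pow, one_mul])
    calc k = c.z⁻¹ * (c.z * k) := by group
      _ = c.z := by rw [h1, mul_one, inv_eq_of_mul_eq_one_left c.z_sq]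

end Ctx

end CfsgLib.LyStd
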