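import Mathlib

/-!
Certificates for the finite facts about the symmetric group on eleven points.
-/

set_option autoImplicit false
set_option maxRecDepth 100000

namespace CfsgLib.LyStd

/-- the three-cycles and double transpositions of five points -/
def fiveS : List (List (Fin 11 × Fin 11)) := [
  [(2, 3), (3, 4)], [(2, 4), (4, 3)], [(1, 2), (3, 4)], [(1, 2), (2, 3)],
  [(1, 2), (2, 4)], [(1, 3), (3, 2)], [(1, 3), (3, 4)], [(1, 3), (2, 4)],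
  [(1, 4), (4, 2)], [(1, 4), (4, 3)], [(1, 4), (2, 3)], [(0, 1), (3, 4)],
  [(0, 1), (2, 3)], [(0, 1), (2, 4)], [(0, 1), (1, 2)], [(0, 1), (1, 3)],
  [(0, 1), (1, 4)], [(0, 2), (2, 1)], [(0, 2), (3, 4)], [(0, 2), (2, 3)],
  [(0, 2), (2, 4)], [(0, 2), (1, 3)], [(0, 2), (1, 4)], [(0, 3), (3, 1)],
  [(0, 3), (3, 2)], [(0, 3), (3, 4)], [(0, 3), (2, 4)], [(0, 3), (1, 2)],
  [(0, 3), (1, 4)], [(0, 4), (4, 1)], [(0, 4), (4, 2)], [(0, 4), (4, 3)],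
  [(0, 4), (2, 3)], [(0, 4), (1, 2)], [(0, 4), (1, 3)]]

/-- each is a commutator of two of them -/
def fiveI : List (ℕ × ℕ) := [
  (1, 11), (0, 11), (0, 5), (0, 17), (1, 17), (1, 23), (0, 23), (0, 8), (0, 29), (1, 29),
  (0, 2), (6, 23), (3, 17), (4, 17), (2, 11), (5, 29), (8, 23), (2, 17), (0, 24), (0, 14),
  (1, 14), (3, 23), (4, 29), (3, 31), (1, 15), (0, 15), (0, 30), (3, 12), (6, 29), (4, 25),
  (0, 16), (1, 16), (0, 18), (4, 13), (6, 11)]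

/-- a perfect set commuting with five disjoint transpositions -/
def pairS : List (List (Fin 11 × Fin 11)) := [
  [(4, 6), (6, 8), (5, 7), (7, 9)], [(4, 8), (8, 6), (5, 9), (9, 7)], [(2, 4), (3, 5), (6, 8), (7, 9)], [(2, 4), (4, 6), (3, 5), (5, 7)],
  [(2, 4), (4, 8), (3, 5), (5, 9)], [(2, 6), (6, 4), (3, 7), (7, 5)], [(2, 6), (6, 8), (3, 7), (7, 9)], [(2, 6), (3, 7), (4, 8), (5, 9)],
  [(2, 8), (8, 4), (3, 9), (9, 5)], [(2, 8), (8, 6), (3, 9), (9, 7)], [(2, 8), (3, 9), (4, 6), (5, 7)], [(0, 2), (1, 3), (6, 8), (7, 9)],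
  [(0, 2), (1, 3), (4, 6), (5, 7)], [(0, 2), (1, 3), (4, 8), (5, 9)], [(0, 2), (2, 4), (1, 3), (3, 5)], [(0, 2), (2, 6), (1, 3), (3, 7)],
  [(0, 2), (2, 8), (1, 3), (3, 9)], [(0, 4), (4, 2), (1, 5), (5, 3)], [(0, 4), (1, 5), (6, 8), (7, 9)], [(0, 4), (4, 6), (1, 5), (5, 7)],
  [(0, 4), (4, 8), (1, 5), (5, 9)], [(0, 4), (1, 5), (2, 6), (3, 7)], [(0, 4), (1, 5), (2, 8), (3, 9)], [(0, 6), (6, 2), (1, 7), (7, 3)],
  [(0, 6), (6, 4), (1, 7), (7, 5)], [(0, 6), (6, 8), (1, 7), (7, 9)], [(0, 6), (1, 7), (4, 8), (5, 9)], [(0, 6), (1, 7), (2, 4), (3, 5)],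
  [(0, 6), (1, 7), (2, 8), (3, 9)], [(0, 8), (8, 2), (1, 9), (9, 3)], [(0, 8), (8, 4), (1, 9), (9, 5)], [(0, 8), (8, 6), (1, 9), (9, 7)],
  [(0, 8), (1, 9), (4, 6), (5, 7)], [(0, 8), (1, 9), (2, 4), (3, 5)], [(0, 8), (1, 9), (2, 6), (3, 7)], [(0, 1), (2, 3)],
  [(0, 1), (4, 5)], [(0, 1), (6, 7)], [(0, 1), (8, 9)], [(2, 3), (4, 5)],
  [(2, 3), (6, 7)], [(2, 3), (8, 9)], [(4, 5), (6, 7)], [(4, 5), (8, 9)],
  [(6, 7), (8, 9)]]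

/-- each is a commutator of two of them -/
def pairI : List (ℕ × ℕ) := [
  (1, 11), (0, 11), (0, 5), (0, 17), (1, 17), (1, 23), (0, 23), (0, 8), (0, 29), (1, 29),
  (0, 2), (6, 23), (3, 17), (4, 17), (2, 11), (5, 29), (8, 23), (2, 17), (0, 24), (0, 14),
  (1, 14), (3, 23), (4, 29), (3, 31), (1, 15), (0, 15), (0, 30), (3, 12), (6, 29), (4, 25),
  (0, 16), (1, 16), (0, 18), (4, 13), (6, 11), (11, 36), (14, 35), (15, 35), (16, 35), (2, 35),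
  (3, 37), (4, 38), (0, 36), (0, 38), (0, 37)]

/-- elements of order three -/
def moveS : List (List (Fin 11 × Fin 11)) := [
  [(4, 8), (8, 5)], [(0, 10), (10, 1)], [(2, 3), (3, 9)], [(6, 8), (8, 7)],
  [(4, 5), (5, 9)], [(6, 7), (7, 10)], [(6, 7), (7, 9)], [(2, 3), (3, 8)],
  [(2, 3), (3, 10)], [(0, 1), (1, 9)], [(4, 10), (10, 5)], [(0, 8), (8, 1)],
  [(0, 1), (1, 2), (5, 6), (6, 7)], [(0, 1), (1, 2), (4, 7), (7, 5)], [(0, 1), (1, 2), (4, 5), (5, 6)], [(0, 1), (1, 4), (2, 3), (3, 6)],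
  [(0, 2), (2, 3), (1, 6), (6, 7)], [(0, 1), (1, 2), (4, 6), (6, 7)], [(0, 1), (1, 2), (3, 7), (7, 6)], [(0, 1), (1, 2), (3, 5), (5, 4)],
  [(0, 1), (1, 4), (2, 5), (5, 3)], [(0, 2), (2, 4), (1, 3), (3, 7)], [(0, 1), (1, 4), (2, 3), (3, 5)], [(0, 2), (2, 3), (1, 5), (5, 4)],
  [(0, 1), (1, 4), (2, 6), (6, 3)], [(0, 2), (2, 3), (1, 4), (4, 5)], [(0, 1), (1, 2), (4, 7), (7, 6)], [(0, 1), (1, 4), (2, 3), (3, 7)],
  [(0, 1), (1, 4), (2, 7), (7, 3)], [(0, 2), (2, 3), (1, 7), (7, 6)], [(0, 1), (1, 2), (5, 7), (7, 6)], [(0, 2), (2, 4), (1, 3), (3, 6)],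
  [(0, 1), (1, 2), (3, 4), (4, 5)], [(0, 1), (1, 2), (4, 6), (6, 5)], [(0, 1), (1, 2), (3, 6), (6, 7)], [(0, 1), (1, 2), (4, 5), (5, 7)],
  [(0, 2), (2, 8), (1, 3), (3, 9)], [(0, 2), (2, 9), (1, 3), (3, 10)], [(0, 2), (2, 8), (1, 3), (3, 10)]]

/-- conjugators -/
def yPaths : List (List ℕ) := [
  [], [2], [1], [0], [1, 2, 1, 1], [1, 1, 2, 1], [2, 1],
  [1, 2], [1, 1], [1, 1, 2], [2, 1, 1], [0, 2], [2, 0]]

/-- their inverses -/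
def yInv : List (List ℕ) := [
  [0, 1, 2, 3, 4, 5, 6, 7, 8, 9, 10], [2, 3, 1, 0, 4, 5, 6, 7, 9, 8, 10],
  [0, 1, 4, 5, 6, 7, 2, 3, 8, 9, 10], [0, 1, 2, 3, 4, 5, 6, 7, 9, 10, 8],
  [6, 7, 2, 3, 4, 5, 1, 0, 9, 8, 10], [4, 5, 2, 3, 1, 0, 6, 7, 9, 8, 10],
  [4, 5, 1, 0, 6, 7, 2, 3, 9, 8, 10], [2, 3, 4, 5, 6, 7, 1, 0, 9, 8, 10],
  [0, 1, 6, 7, 2, 3, 4, 5, 8, 9, 10], [2, 3, 6, 7, 1, 0, 4, 5, 9, 8, 10],
  [6, 7, 1, 0, 2, 3, 4, 5, 9, 8, 10], [2, 3, 1, 0, 4, 5, 6, 7, 8, 10, 9],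
  [2, 3, 1, 0, 4, 5, 6, 7, 10, 9, 8]]

/-- the solutions of `q³ = 1` among the candidates -/
def threes : List (List ℕ) := [
  [0, 1, 2, 3, 4, 5, 6, 7, 8, 9, 10], [0, 1, 2, 3, 4, 5, 6, 7, 9, 10, 8],
  [0, 1, 2, 3, 4, 5, 6, 7, 10, 8, 9], [0, 1, 4, 5, 6, 7, 2, 3, 8, 9, 10],
  [0, 1, 4, 5, 6, 7, 2, 3, 9, 10, 8], [0, 1, 4, 5, 6, 7, 2, 3, 10, 8, 9],
  [0, 1, 4, 5, 7, 6, 3, 2, 8, 9, 10], [0, 1, 4, 5, 7, 6, 3, 2, 9, 10, 8],
  [0, 1, 4, 5, 7, 6, 3, 2, 10, 8, 9], [0, 1, 5, 4, 6, 7, 3, 2, 8, 9, 10],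
  [0, 1, 5, 4, 6, 7, 3, 2, 9, 10, 8], [0, 1, 5, 4, 6, 7, 3, 2, 10, 8, 9],
  [0, 1, 5, 4, 7, 6, 2, 3, 8, 9, 10], [0, 1, 5, 4, 7, 6, 2, 3, 9, 10, 8],
  [0, 1, 5, 4, 7, 6, 2, 3, 10, 8, 9], [0, 1, 6, 7, 2, 3, 4, 5, 8, 9, 10],
  [0, 1, 6, 7, 2, 3, 4, 5, 9, 10, 8], [0, 1, 6, 7, 2, 3, 4, 5, 10, 8, 9],
  [0, 1, 6, 7, 3, 2, 5, 4, 8, 9, 10], [0, 1, 6, 7, 3, 2, 5, 4, 9, 10, 8],
  [0, 1, 6, 7, 3, 2, 5, 4, 10, 8, 9], [0, 1, 7, 6, 2, 3, 5, 4, 8, 9, 10],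
  [0, 1, 7, 6, 2, 3, 5, 4, 9, 10, 8], [0, 1, 7, 6, 2, 3, 5, 4, 10, 8, 9],
  [0, 1, 7, 6, 3, 2, 4, 5, 8, 9, 10], [0, 1, 7, 6, 3, 2, 4, 5, 9, 10, 8],
  [0, 1, 7, 6, 3, 2, 4, 5, 10, 8, 9], [2, 3, 4, 5, 0, 1, 6, 7, 8, 9, 10],
  [2, 3, 4, 5, 0, 1, 6, 7, 9, 10, 8], [2, 3, 4, 5, 0, 1, 6, 7, 10, 8, 9],
  [2, 3, 5, 4, 1, 0, 6, 7, 8, 9, 10], [2, 3, 5, 4, 1, 0, 6, 7, 9, 10, 8],
  [2, 3, 5, 4, 1, 0, 6, 7, 10, 8, 9], [2, 3, 6, 7, 4, 5, 0, 1, 8, 9, 10],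
  [2, 3, 6, 7, 4, 5, 0, 1, 9, 10, 8], [2, 3, 6, 7, 4, 5, 0, 1, 10, 8, 9],
  [2, 3, 7, 6, 4, 5, 1, 0, 8, 9, 10], [2, 3, 7, 6, 4, 5, 1, 0, 9, 10, 8],
  [2, 3, 7, 6, 4, 5, 1, 0, 10, 8, 9], [3, 2, 4, 5, 1, 0, 6, 7, 8, 9, 10],
  [3, 2, 4, 5, 1, 0, 6, 7, 9, 10, 8], [3, 2, 4, 5, 1, 0, 6, 7, 10, 8, 9],
  [3, 2, 5, 4, 0, 1, 6, 7, 8, 9, 10], [3, 2, 5, 4, 0, 1, 6, 7, 9, 10, 8],
  [3, 2, 5, 4, 0, 1, 6, 7, 10, 8, 9], [3, 2, 6, 7, 4, 5, 1, 0, 8, 9, 10],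
  [3, 2, 6, 7, 4, 5, 1, 0, 9, 10, 8], [3, 2, 6, 7, 4, 5, 1, 0, 10, 8, 9],
  [3, 2, 7, 6, 4, 5, 0, 1, 8, 9, 10], [3, 2, 7, 6, 4, 5, 0, 1, 9, 10, 8],
  [3, 2, 7, 6, 4, 5, 0, 1, 10, 8, 9], [4, 5, 0, 1, 2, 3, 6, 7, 8, 9, 10],
  [4, 5, 0, 1, 2, 3, 6, 7, 9, 10, 8], [4, 5, 0, 1, 2, 3, 6, 7, 10, 8, 9],
  [4, 5, 1, 0, 3, 2, 6, 7, 8, 9, 10], [4, 5, 1, 0, 3, 2, 6, 7, 9, 10, 8],
  [4, 5, 1, 0, 3, 2, 6, 7, 10, 8, 9], [4, 5, 2, 3, 6, 7, 0, 1, 8, 9, 10],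
  [4, 5, 2, 3, 6, 7, 0, 1, 9, 10, 8], [4, 5, 2, 3, 6, 7, 0, 1, 10, 8, 9],
  [4, 5, 2, 3, 7, 6, 1, 0, 8, 9, 10], [4, 5, 2, 3, 7, 6, 1, 0, 9, 10, 8],
  [4, 5, 2, 3, 7, 6, 1, 0, 10, 8, 9], [5, 4, 0, 1, 3, 2, 6, 7, 8, 9, 10],
  [5, 4, 0, 1, 3, 2, 6, 7, 9, 10, 8], [5, 4, 0, 1, 3, 2, 6, 7, 10, 8, 9],
  [5, 4, 1, 0, 2, 3, 6, 7, 8, 9, 10], [5, 4, 1, 0, 2, 3, 6, 7, 9, 10, 8],
  [5, 4, 1, 0, 2, 3, 6, 7, 10, 8, 9], [5, 4, 2, 3, 6, 7, 1, 0, 8, 9, 10],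
  [5, 4, 2, 3, 6, 7, 1, 0, 9, 10, 8], [5, 4, 2, 3, 6, 7, 1, 0, 10, 8, 9],
  [5, 4, 2, 3, 7, 6, 0, 1, 8, 9, 10], [5, 4, 2, 3, 7, 6, 0, 1, 9, 10, 8],
  [5, 4, 2, 3, 7, 6, 0, 1, 10, 8, 9], [6, 7, 0, 1, 4, 5, 2, 3, 8, 9, 10],
  [6, 7, 0, 1, 4, 5, 2, 3, 9, 10, 8], [6, 7, 0, 1, 4, 5, 2, 3, 10, 8, 9],
  [6, 7, 1, 0, 4, 5, 3, 2, 8, 9, 10], [6, 7, 1, 0, 4, 5, 3, 2, 9, 10, 8],
  [6, 7, 1, 0, 4, 5, 3, 2, 10, 8, 9], [6, 7, 2, 3, 0, 1, 4, 5, 8, 9, 10],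
  [6, 7, 2, 3, 0, 1, 4, 5, 9, 10, 8], [6, 7, 2, 3, 0, 1, 4, 5, 10, 8, 9],
  [6, 7, 2, 3, 1, 0, 5, 4, 8, 9, 10], [6, 7, 2, 3, 1, 0, 5, 4, 9, 10, 8],
  [6, 7, 2, 3, 1, 0, 5, 4, 10, 8, 9], [7, 6, 0, 1, 4, 5, 3, 2, 8, 9, 10],
  [7, 6, 0, 1, 4, 5, 3, 2, 9, 10, 8], [7, 6, 0, 1, 4, 5, 3, 2, 10, 8, 9],
  [7, 6, 1, 0, 4, 5, 2, 3, 8, 9, 10], [7, 6, 1, 0, 4, 5, 2, 3, 9, 10, 8],
  [7, 6, 1, 0, 4, 5, 2, 3, 10, 8, 9], [7, 6, 2, 3, 0, 1, 5, 4, 8, 9, 10],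
  [7, 6, 2, 3, 0, 1, 5, 4, 9, 10, 8], [7, 6, 2, 3, 0, 1, 5, 4, 10, 8, 9],
  [7, 6, 2, 3, 1, 0, 4, 5, 8, 9, 10], [7, 6, 2, 3, 1, 0, 4, 5, 9, 10, 8],
  [7, 6, 2, 3, 1, 0, 4, 5, 10, 8, 9]]

/-- certificates, piece 0 -/
def wit0 : List (ℕ × List ℕ × ℕ) := [
  (0, [], 0), (1, [], 1), (1, [], 1), (2, [], 0), (2, [], 0), (1, [], 1), (1, [], 1), (1, [], 1),
  (1, [], 1), (1, [], 3), (1, [], 3), (1, [], 1), (1, [], 1), (1, [], 1), (1, [], 1), (1, [], 3),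
  (1, [], 3), (1, [], 1), (1, [], 1), (1, [], 1), (1, [], 1), (1, [], 3), (1, [], 3), (1, [], 1),
  (1, [], 1), (1, [], 1), (1, [], 1), (1, [], 3), (1, [], 3), (1, [], 1), (1, [], 2), (1, [], 2),
  (1, [], 2), (1, [], 6), (1, [], 6), (1, [], 2), (1, [], 2), (1, [], 2), (1, [], 2), (1, [], 6),
  (1, [], 6), (1, [], 2), (1, [], 1), (1, [], 1), (1, [], 1), (1, [], 3), (1, [], 3), (1, [], 1),
  (1, [], 1), (1, [], 1), (1, [], 1), (1, [], 3), (1, [], 3), (1, [], 1), (1, [], 1), (1, [], 1),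
  (1, [], 1), (1, [], 3), (1, [], 3), (1, [], 1), (1, [], 1), (1, [], 1), (1, [], 1), (1, [], 3),
  (1, [], 3), (1, [], 1), (1, [], 1), (1, [], 1), (1, [], 1), (1, [], 3), (1, [], 3), (1, [], 1),
  (1, [], 1), (1, [], 1), (1, [], 1), (1, [], 3), (1, [], 3), (1, [], 1), (1, [], 2), (1, [], 2),
  (1, [], 2), (1, [], 6), (1, [], 6), (1, [], 2), (1, [], 2), (1, [], 2), (1, [], 2), (1, [], 6),
  (1, [], 6), (1, [], 2), (1, [], 1), (1, [], 1), (1, [], 1), (1, [], 3), (1, [], 3), (1, [], 1),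
  (1, [], 1), (1, [], 1), (1, [], 1), (1, [], 3), (1, [], 3), (1, [], 1), (1, [], 1), (1, [], 1),
  (1, [], 1), (1, [], 3), (1, [], 3), (1, [], 1), (1, [], 2), (1, [], 2), (1, [], 2), (1, [], 6),
  (1, [], 6), (1, [], 2), (1, [], 2), (1, [], 2), (1, [], 2), (1, [], 6), (1, [], 6), (1, [], 2),
  (1, [1], 1), (1, [], 3), (1, [], 3), (1, [1], 1), (1, [1], 1), (1, [], 3), (1, [], 3), (1, [], 3),
  (1, [], 3), (1, [], 3), (1, [], 3), (1, [], 3), (1, [], 3), (1, [], 3), (1, [], 3), (1, [], 3),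
  (1, [], 3), (1, [], 3), (1, [1], 1), (1, [], 3), (1, [], 3), (1, [1], 1), (1, [1], 1), (1, [], 3),
  (1, [], 2), (1, [], 2), (1, [], 2), (1, [], 6), (1, [], 6), (1, [], 2), (1, [], 2), (1, [], 2),
  (1, [], 2), (1, [], 6), (1, [], 6), (1, [], 2), (1, [], 1), (1, [], 1), (1, [], 1), (1, [], 3),
  (1, [], 3), (1, [], 1), (1, [], 1), (1, [], 1), (1, [], 1), (1, [], 3), (1, [], 3), (1, [], 1),
  (1, [], 3), (1, [], 3), (1, [], 3), (1, [], 3), (1, [], 3), (1, [], 3), (1, [1], 1), (1, [], 3),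
  (1, [], 3), (1, [1], 1), (1, [1], 1), (1, [], 3), (1, [1], 1), (1, [], 3), (1, [], 3), (1, [1], 1),
  (1, [1], 1), (1, [], 3), (1, [], 3), (1, [], 3), (1, [], 3), (1, [], 3), (1, [], 3), (1, [], 3),
  (1, [1], 1), (1, [], 3), (1, [], 3), (1, [1], 1), (1, [1], 1), (1, [], 3), (1, [], 3), (1, [], 3),
  (1, [], 3), (1, [], 3), (1, [], 3), (1, [], 3), (1, [], 3), (1, [], 3), (1, [], 3), (1, [], 3),
  (1, [], 3), (1, [], 3), (1, [1], 1), (1, [], 3), (1, [], 3), (1, [1], 1), (1, [1], 1), (1, [], 3),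
  (1, [], 1), (1, [], 1), (1, [], 1), (1, [], 3), (1, [], 3), (1, [], 1), (1, [], 2), (1, [], 2),
  (1, [], 2), (1, [], 6), (1, [], 6), (1, [], 2), (1, [], 1), (1, [], 1), (1, [], 1), (1, [], 3),
  (1, [], 3), (1, [], 1), (1, [], 2), (1, [], 2), (1, [], 2), (1, [], 6), (1, [], 6), (1, [], 2),
  (1, [], 3), (1, [], 3), (1, [], 3), (1, [], 3), (1, [], 3), (1, [], 3), (1, [1], 1), (1, [], 3),
  (1, [], 3), (1, [1], 1), (1, [1], 1), (1, [], 3), (1, [1], 1), (1, [], 3), (1, [], 3), (1, [1], 1),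
  (1, [1], 1), (1, [], 3), (1, [], 3), (1, [], 3), (1, [], 3), (1, [], 3), (1, [], 3), (1, [], 3),
  (1, [], 2), (1, [], 2), (1, [], 2), (1, [], 6), (1, [], 6), (1, [], 2), (1, [], 1), (1, [], 1),
  (1, [], 1), (1, [], 3), (1, [], 3), (1, [], 1), (1, [], 2), (1, [], 2), (1, [], 2), (1, [], 6),
  (1, [], 6), (1, [], 2), (1, [], 1), (1, [], 1), (1, [], 1), (1, [], 3), (1, [], 3), (1, [], 1)]

/-- certificates, piece 1 -/
def wit1 : List (ℕ × List ℕ × ℕ) := [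
  (1, [], 1), (1, [], 1), (1, [], 1), (1, [], 3), (1, [], 3), (1, [], 1), (1, [], 1), (1, [], 1),
  (1, [], 1), (1, [], 3), (1, [], 3), (1, [], 1), (1, [], 1), (1, [], 1), (1, [], 1), (1, [], 3),
  (1, [], 3), (1, [], 1), (1, [], 1), (1, [], 1), (1, [], 1), (1, [], 3), (1, [], 3), (1, [], 1),
  (1, [], 1), (1, [], 1), (1, [], 1), (1, [], 3), (1, [], 3), (1, [], 1), (1, [], 2), (1, [], 2),
  (1, [], 2), (1, [], 6), (1, [], 6), (1, [], 2), (1, [], 2), (1, [], 2), (1, [], 2), (1, [], 6),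
  (1, [], 6), (1, [], 2), (1, [], 1), (1, [], 1), (1, [], 1), (1, [], 3), (1, [], 3), (1, [], 1),
  (1, [], 1), (1, [], 1), (1, [], 1), (1, [], 3), (1, [], 3), (1, [], 1), (1, [], 1), (1, [], 1),
  (1, [], 1), (1, [], 3), (1, [], 3), (1, [], 1), (1, [], 1), (1, [], 1), (1, [], 1), (1, [], 3),
  (1, [], 3), (1, [], 1), (0, [], 0), (1, [], 1), (1, [], 1), (2, [], 0), (2, [], 0), (1, [], 1),
  (1, [], 1), (1, [], 1), (1, [], 1), (1, [], 3), (1, [], 3), (1, [], 1), (1, [], 2), (1, [], 2),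
  (1, [], 2), (1, [], 6), (1, [], 6), (1, [], 2), (1, [], 2), (1, [], 2), (1, [], 2), (1, [], 6),
  (1, [], 6), (1, [], 2), (1, [], 1), (1, [], 1), (1, [], 1), (1, [], 3), (1, [], 3), (1, [], 1),
  (1, [], 1), (1, [], 1), (1, [], 1), (1, [], 3), (1, [], 3), (1, [], 1), (1, [], 1), (1, [], 1),
  (1, [], 1), (1, [], 3), (1, [], 3), (1, [], 1), (1, [], 2), (1, [], 2), (1, [], 2), (1, [], 6),
  (1, [], 6), (1, [], 2), (1, [], 2), (1, [], 2), (1, [], 2), (1, [], 6), (1, [], 6), (1, [], 2),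
  (1, [], 3), (1, [], 3), (1, [], 3), (1, [], 3), (1, [], 3), (1, [], 3), (1, [1], 1), (1, [], 3),
  (1, [], 3), (1, [1], 1), (1, [1], 1), (1, [], 3), (1, [1], 1), (1, [], 3), (1, [], 3), (1, [1], 1),
  (1, [1], 1), (1, [], 3), (1, [], 3), (1, [], 3), (1, [], 3), (1, [], 3), (1, [], 3), (1, [], 3),
  (1, [], 2), (1, [], 2), (1, [], 2), (1, [], 6), (1, [], 6), (1, [], 2), (1, [], 2), (1, [], 2),
  (1, [], 2), (1, [], 6), (1, [], 6), (1, [], 2), (1, [], 1), (1, [], 1), (1, [], 1), (1, [], 3),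
  (1, [], 3), (1, [], 1), (1, [], 1), (1, [], 1), (1, [], 1), (1, [], 3), (1, [], 3), (1, [], 1),
  (1, [1], 1), (1, [], 3), (1, [], 3), (1, [1], 1), (1, [1], 1), (1, [], 3), (1, [], 3), (1, [], 3),
  (1, [], 3), (1, [], 3), (1, [], 3), (1, [], 3), (1, [], 3), (1, [], 3), (1, [], 3), (1, [], 3),
  (1, [], 3), (1, [], 3), (1, [1], 1), (1, [], 3), (1, [], 3), (1, [1], 1), (1, [1], 1), (1, [], 3),
  (1, [], 3), (1, [], 3), (1, [], 3), (1, [], 3), (1, [], 3), (1, [], 3), (1, [1], 1), (1, [], 3),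
  (1, [], 3), (1, [1], 1), (1, [1], 1), (1, [], 3), (1, [1], 1), (1, [], 3), (1, [], 3), (1, [1], 1),
  (1, [1], 1), (1, [], 3), (1, [], 3), (1, [], 3), (1, [], 3), (1, [], 3), (1, [], 3), (1, [], 3),
  (1, [], 1), (1, [], 1), (1, [], 1), (1, [], 3), (1, [], 3), (1, [], 1), (1, [], 2), (1, [], 2),
  (1, [], 2), (1, [], 6), (1, [], 6), (1, [], 2), (1, [], 1), (1, [], 1), (1, [], 1), (1, [], 3),
  (1, [], 3), (1, [], 1), (1, [], 2), (1, [], 2), (1, [], 2), (1, [], 6), (1, [], 6), (1, [], 2),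
  (1, [1], 1), (1, [], 3), (1, [], 3), (1, [1], 1), (1, [1], 1), (1, [], 3), (1, [], 3), (1, [], 3),
  (1, [], 3), (1, [], 3), (1, [], 3), (1, [], 3), (1, [], 3), (1, [], 3), (1, [], 3), (1, [], 3),
  (1, [], 3), (1, [], 3), (1, [1], 1), (1, [], 3), (1, [], 3), (1, [1], 1), (1, [1], 1), (1, [], 3),
  (1, [], 2), (1, [], 2), (1, [], 2), (1, [], 6), (1, [], 6), (1, [], 2), (1, [], 1), (1, [], 1),
  (1, [], 1), (1, [], 3), (1, [], 3), (1, [], 1), (1, [], 2), (1, [], 2), (1, [], 2), (1, [], 6),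
  (1, [], 6), (1, [], 2), (1, [], 1), (1, [], 1), (1, [], 1), (1, [], 3), (1, [], 3), (1, [], 1)]

/-- certificates, piece 2 -/
def wit2 : List (ℕ × List ℕ × ℕ) := [
  (1, [], 1), (1, [], 1), (1, [], 1), (1, [], 3), (1, [], 3), (1, [], 1), (1, [], 1), (1, [], 1),
  (1, [], 1), (1, [], 3), (1, [], 3), (1, [], 1), (1, [], 1), (1, [], 1), (1, [], 1), (1, [], 3),
  (1, [], 3), (1, [], 1), (1, [], 1), (1, [], 1), (1, [], 1), (1, [], 3), (1, [], 3), (1, [], 1),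
  (1, [], 1), (1, [], 1), (1, [], 1), (1, [], 3), (1, [], 3), (1, [], 1), (1, [], 2), (1, [], 2),
  (1, [], 2), (1, [], 6), (1, [], 6), (1, [], 2), (1, [], 2), (1, [], 2), (1, [], 2), (1, [], 6),
  (1, [], 6), (1, [], 2), (1, [], 1), (1, [], 1), (1, [], 1), (1, [], 3), (1, [], 3), (1, [], 1),
  (1, [], 2), (1, [], 2), (1, [], 2), (1, [], 6), (1, [], 6), (1, [], 2), (1, [], 2), (1, [], 2),
  (1, [], 2), (1, [], 6), (1, [], 6), (1, [], 2), (1, [], 2), (1, [], 2), (1, [], 2), (1, [], 6),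
  (1, [], 6), (1, [], 2), (1, [], 2), (1, [], 2), (1, [], 2), (1, [], 6), (1, [], 6), (1, [], 2),
  (1, [], 2), (1, [], 2), (1, [], 2), (1, [], 6), (1, [], 6), (1, [], 2), (3, [], 0), (1, [2, 4], 1),
  (1, [2, 4], 1), (3, [], 0), (3, [], 0), (1, [2, 4], 1), (3, [], 0), (1, [2, 4], 1), (1, [2, 4], 1), (3, [], 0),
  (3, [], 0), (1, [2, 4], 1), (1, [], 2), (1, [], 2), (1, [], 2), (1, [], 6), (1, [], 6), (1, [], 2),
  (1, [1], 1), (1, [], 3), (1, [], 3), (1, [1], 1), (1, [1], 1), (1, [], 3), (1, [], 3), (1, [], 3),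
  (1, [], 3), (1, [], 3), (1, [], 3), (1, [], 3), (1, [], 3), (1, [], 3), (1, [], 3), (1, [], 3),
  (1, [], 3), (1, [], 3), (1, [1], 1), (1, [], 3), (1, [], 3), (1, [1], 1), (1, [1], 1), (1, [], 3),
  (1, [], 2), (1, [], 2), (1, [], 2), (1, [], 6), (1, [], 6), (1, [], 2), (1, [5], 1), (1, [5], 3),
  (1, [5], 1), (1, [5], 1), (1, [5], 1), (1, [5], 3), (1, [5], 1), (1, [5], 3), (1, [5], 1), (1, [5], 1),
  (1, [5], 1), (1, [5], 3), (1, [], 2), (1, [], 2), (1, [], 2), (1, [], 6), (1, [], 6), (1, [], 2),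
  (1, [], 3), (1, [], 3), (1, [], 3), (1, [], 3), (1, [], 3), (1, [], 3), (1, [1], 1), (1, [], 3),
  (1, [], 3), (1, [1], 1), (1, [1], 1), (1, [], 3), (1, [1], 1), (1, [], 3), (1, [], 3), (1, [1], 1),
  (1, [1], 1), (1, [], 3), (1, [], 3), (1, [], 3), (1, [], 3), (1, [], 3), (1, [], 3), (1, [], 3),
  (1, [5], 1), (1, [5], 3), (1, [5], 1), (1, [5], 1), (1, [5], 1), (1, [5], 3), (1, [], 2), (1, [], 2),
  (1, [], 2), (1, [], 6), (1, [], 6), (1, [], 2), (1, [], 2), (1, [], 2), (1, [], 2), (1, [], 6),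
  (1, [], 6), (1, [], 2), (1, [5], 1), (1, [5], 3), (1, [5], 1), (1, [5], 1), (1, [5], 1), (1, [5], 3),
  (1, [], 2), (1, [], 2), (1, [], 2), (1, [], 6), (1, [], 6), (1, [], 2), (1, [4], 1), (1, [4], 3),
  (1, [4], 1), (1, [4], 1), (1, [4], 1), (1, [4], 3), (1, [4], 1), (1, [4], 3), (1, [4], 1), (1, [4], 1),
  (1, [4], 1), (1, [4], 3), (1, [], 2), (1, [], 2), (1, [], 2), (1, [], 6), (1, [], 6), (1, [], 2),
  (1, [1], 1), (1, [], 3), (1, [], 3), (1, [1], 1), (1, [1], 1), (1, [], 3), (1, [], 3), (1, [], 3),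
  (1, [], 3), (1, [], 3), (1, [], 3), (1, [], 3), (1, [], 3), (1, [], 3), (1, [], 3), (1, [], 3),
  (1, [], 3), (1, [], 3), (1, [1], 1), (1, [], 3), (1, [], 3), (1, [1], 1), (1, [1], 1), (1, [], 3),
  (1, [4], 1), (1, [4], 3), (1, [4], 1), (1, [4], 1), (1, [4], 1), (1, [4], 3), (1, [], 2), (1, [], 2),
  (1, [], 2), (1, [], 6), (1, [], 6), (1, [], 2), (1, [], 2), (1, [], 2), (1, [], 2), (1, [], 6),
  (1, [], 6), (1, [], 2), (1, [4], 1), (1, [4], 3), (1, [4], 1), (1, [4], 1), (1, [4], 1), (1, [4], 3),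
  (1, [], 3), (1, [], 3), (1, [], 3), (1, [], 3), (1, [], 3), (1, [], 3), (1, [1], 1), (1, [], 3),
  (1, [], 3), (1, [1], 1), (1, [1], 1), (1, [], 3), (1, [1], 1), (1, [], 3), (1, [], 3), (1, [1], 1),
  (1, [1], 1), (1, [], 3), (1, [], 3), (1, [], 3), (1, [], 3), (1, [], 3), (1, [], 3), (1, [], 3)]

/-- certificates, piece 3 -/
def wit3 : List (ℕ × List ℕ × ℕ) := [
  (1, [], 2), (1, [], 2), (1, [], 2), (1, [], 6), (1, [], 6), (1, [], 2), (1, [], 2), (1, [], 2),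
  (1, [], 2), (1, [], 6), (1, [], 6), (1, [], 2), (1, [], 2), (1, [], 2), (1, [], 2), (1, [], 6),
  (1, [], 6), (1, [], 2), (1, [], 2), (1, [], 2), (1, [], 2), (1, [], 6), (1, [], 6), (1, [], 2),
  (1, [], 2), (1, [], 2), (1, [], 2), (1, [], 6), (1, [], 6), (1, [], 2), (3, [], 0), (1, [2, 4], 1),
  (1, [2, 4], 1), (3, [], 0), (3, [], 0), (1, [2, 4], 1), (3, [], 0), (1, [2, 4], 1), (1, [2, 4], 1), (3, [], 0),
  (3, [], 0), (1, [2, 4], 1), (1, [], 2), (1, [], 2), (1, [], 2), (1, [], 6), (1, [], 6), (1, [], 2),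
  (1, [], 1), (1, [], 1), (1, [], 1), (1, [], 3), (1, [], 3), (1, [], 1), (1, [], 1), (1, [], 1),
  (1, [], 1), (1, [], 3), (1, [], 3), (1, [], 1), (1, [], 1), (1, [], 1), (1, [], 1), (1, [], 3),
  (1, [], 3), (1, [], 1), (1, [], 1), (1, [], 1), (1, [], 1), (1, [], 3), (1, [], 3), (1, [], 1),
  (1, [], 1), (1, [], 1), (1, [], 1), (1, [], 3), (1, [], 3), (1, [], 1), (1, [], 2), (1, [], 2),
  (1, [], 2), (1, [], 6), (1, [], 6), (1, [], 2), (1, [], 2), (1, [], 2), (1, [], 2), (1, [], 6),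
  (1, [], 6), (1, [], 2), (1, [], 1), (1, [], 1), (1, [], 1), (1, [], 3), (1, [], 3), (1, [], 1),
  (1, [], 3), (1, [], 3), (1, [], 3), (1, [], 3), (1, [], 3), (1, [], 3), (1, [1], 1), (1, [], 3),
  (1, [], 3), (1, [1], 1), (1, [1], 1), (1, [], 3), (1, [1], 1), (1, [], 3), (1, [], 3), (1, [1], 1),
  (1, [1], 1), (1, [], 3), (1, [], 3), (1, [], 3), (1, [], 3), (1, [], 3), (1, [], 3), (1, [], 3),
  (1, [5], 1), (1, [5], 3), (1, [5], 1), (1, [5], 1), (1, [5], 1), (1, [5], 3), (1, [], 2), (1, [], 2),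
  (1, [], 2), (1, [], 6), (1, [], 6), (1, [], 2), (1, [], 2), (1, [], 2), (1, [], 2), (1, [], 6),
  (1, [], 6), (1, [], 2), (1, [5], 1), (1, [5], 3), (1, [5], 1), (1, [5], 1), (1, [5], 1), (1, [5], 3),
  (1, [1], 1), (1, [], 3), (1, [], 3), (1, [1], 1), (1, [1], 1), (1, [], 3), (1, [], 3), (1, [], 3),
  (1, [], 3), (1, [], 3), (1, [], 3), (1, [], 3), (1, [], 3), (1, [], 3), (1, [], 3), (1, [], 3),
  (1, [], 3), (1, [], 3), (1, [1], 1), (1, [], 3), (1, [], 3), (1, [1], 1), (1, [1], 1), (1, [], 3),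
  (1, [], 2), (1, [], 2), (1, [], 2), (1, [], 6), (1, [], 6), (1, [], 2), (1, [5], 1), (1, [5], 3),
  (1, [5], 1), (1, [5], 1), (1, [5], 1), (1, [5], 3), (1, [5], 1), (1, [5], 3), (1, [5], 1), (1, [5], 1),
  (1, [5], 1), (1, [5], 3), (1, [], 2), (1, [], 2), (1, [], 2), (1, [], 6), (1, [], 6), (1, [], 2),
  (1, [4], 1), (1, [4], 3), (1, [4], 1), (1, [4], 1), (1, [4], 1), (1, [4], 3), (1, [], 2), (1, [], 2),
  (1, [], 2), (1, [], 6), (1, [], 6), (1, [], 2), (1, [], 2), (1, [], 2), (1, [], 2), (1, [], 6),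
  (1, [], 6), (1, [], 2), (1, [4], 1), (1, [4], 3), (1, [4], 1), (1, [4], 1), (1, [4], 1), (1, [4], 3),
  (1, [], 3), (1, [], 3), (1, [], 3), (1, [], 3), (1, [], 3), (1, [], 3), (1, [1], 1), (1, [], 3),
  (1, [], 3), (1, [1], 1), (1, [1], 1), (1, [], 3), (1, [1], 1), (1, [], 3), (1, [], 3), (1, [1], 1),
  (1, [1], 1), (1, [], 3), (1, [], 3), (1, [], 3), (1, [], 3), (1, [], 3), (1, [], 3), (1, [], 3),
  (1, [], 2), (1, [], 2), (1, [], 2), (1, [], 6), (1, [], 6), (1, [], 2), (1, [4], 1), (1, [4], 3),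
  (1, [4], 1), (1, [4], 1), (1, [4], 1), (1, [4], 3), (1, [4], 1), (1, [4], 3), (1, [4], 1), (1, [4], 1),
  (1, [4], 1), (1, [4], 3), (1, [], 2), (1, [], 2), (1, [], 2), (1, [], 6), (1, [], 6), (1, [], 2),
  (1, [1], 1), (1, [], 3), (1, [], 3), (1, [1], 1), (1, [1], 1), (1, [], 3), (1, [], 3), (1, [], 3),
  (1, [], 3), (1, [], 3), (1, [], 3), (1, [], 3), (1, [], 3), (1, [], 3), (1, [], 3), (1, [], 3),
  (1, [], 3), (1, [], 3), (1, [1], 1), (1, [], 3), (1, [], 3), (1, [1], 1), (1, [1], 1), (1, [], 3)]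

/-- certificates, piece 4 -/
def wit4 : List (ℕ × List ℕ × ℕ) := [
  (1, [1], 1), (1, [], 3), (1, [], 3), (1, [1], 1), (1, [1], 1), (1, [], 3), (1, [], 3), (1, [], 3),
  (1, [], 3), (1, [], 3), (1, [], 3), (1, [], 3), (1, [], 3), (1, [], 3), (1, [], 3), (1, [], 3),
  (1, [], 3), (1, [], 3), (1, [1], 1), (1, [], 3), (1, [], 3), (1, [1], 1), (1, [1], 1), (1, [], 3),
  (1, [], 2), (1, [], 2), (1, [], 2), (1, [], 6), (1, [], 6), (1, [], 2), (1, [4], 1), (1, [4], 3),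
  (1, [4], 1), (1, [4], 1), (1, [4], 1), (1, [4], 3), (1, [4], 1), (1, [4], 3), (1, [4], 1), (1, [4], 1),
  (1, [4], 1), (1, [4], 3), (1, [], 2), (1, [], 2), (1, [], 2), (1, [], 6), (1, [], 6), (1, [], 2),
  (1, [], 3), (1, [], 3), (1, [], 3), (1, [], 3), (1, [], 3), (1, [], 3), (1, [1], 1), (1, [], 3),
  (1, [], 3), (1, [1], 1), (1, [1], 1), (1, [], 3), (1, [1], 1), (1, [], 3), (1, [], 3), (1, [1], 1),
  (1, [1], 1), (1, [], 3), (1, [], 3), (1, [], 3), (1, [], 3), (1, [], 3), (1, [], 3), (1, [], 3),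
  (1, [4], 1), (1, [4], 3), (1, [4], 1), (1, [4], 1), (1, [4], 1), (1, [4], 3), (1, [], 2), (1, [], 2),
  (1, [], 2), (1, [], 6), (1, [], 6), (1, [], 2), (1, [], 2), (1, [], 2), (1, [], 2), (1, [], 6),
  (1, [], 6), (1, [], 2), (1, [4], 1), (1, [4], 3), (1, [4], 1), (1, [4], 1), (1, [4], 1), (1, [4], 3),
  (1, [], 1), (1, [], 1), (1, [], 1), (1, [], 3), (1, [], 3), (1, [], 1), (1, [], 1), (1, [], 1),
  (1, [], 1), (1, [], 3), (1, [], 3), (1, [], 1), (1, [], 2), (1, [], 2), (1, [], 2), (1, [], 6),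
  (1, [], 6), (1, [], 2), (1, [], 2), (1, [], 2), (1, [], 2), (1, [], 6), (1, [], 6), (1, [], 2),
  (1, [1], 1), (1, [], 3), (1, [], 3), (1, [1], 1), (1, [1], 1), (1, [], 3), (1, [], 3), (1, [], 3),
  (1, [], 3), (1, [], 3), (1, [], 3), (1, [], 3), (1, [], 3), (1, [], 3), (1, [], 3), (1, [], 3),
  (1, [], 3), (1, [], 3), (1, [1], 1), (1, [], 3), (1, [], 3), (1, [1], 1), (1, [1], 1), (1, [], 3),
  (1, [], 1), (1, [], 1), (1, [], 1), (1, [], 3), (1, [], 3), (1, [], 1), (1, [], 1), (1, [], 1),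
  (1, [], 1), (1, [], 3), (1, [], 3), (1, [], 1), (1, [], 2), (1, [], 2), (1, [], 2), (1, [], 6),
  (1, [], 6), (1, [], 2), (1, [], 2), (1, [], 2), (1, [], 2), (1, [], 6), (1, [], 6), (1, [], 2),
  (1, [], 3), (1, [], 3), (1, [], 3), (1, [], 3), (1, [], 3), (1, [], 3), (1, [1], 1), (1, [], 3),
  (1, [], 3), (1, [1], 1), (1, [1], 1), (1, [], 3), (1, [1], 1), (1, [], 3), (1, [], 3), (1, [1], 1),
  (1, [1], 1), (1, [], 3), (1, [], 3), (1, [], 3), (1, [], 3), (1, [], 3), (1, [], 3), (1, [], 3),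
  (1, [], 1), (1, [], 1), (1, [], 1), (1, [], 3), (1, [], 3), (1, [], 1), (1, [], 2), (1, [], 2),
  (1, [], 2), (1, [], 6), (1, [], 6), (1, [], 2), (1, [], 2), (1, [], 2), (1, [], 2), (1, [], 6),
  (1, [], 6), (1, [], 2), (3, [], 0), (1, [1, 2], 1), (1, [1, 2], 1), (3, [], 0), (3, [], 0), (1, [1, 2], 1),
  (1, [], 2), (1, [], 2), (1, [], 2), (1, [], 6), (1, [], 6), (1, [], 2), (1, [1], 1), (1, [1], 3),
  (1, [1], 1), (1, [1], 1), (1, [1], 1), (1, [1], 3), (1, [1], 1), (1, [1], 3), (1, [1], 1), (1, [1], 1),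
  (1, [1], 1), (1, [1], 3), (1, [], 2), (1, [], 2), (1, [], 2), (1, [], 6), (1, [], 6), (1, [], 2),
  (1, [], 2), (1, [], 2), (1, [], 2), (1, [], 6), (1, [], 6), (1, [], 2), (1, [], 1), (1, [], 1),
  (1, [], 1), (1, [], 3), (1, [], 3), (1, [], 1), (3, [], 0), (1, [1, 2], 1), (1, [1, 2], 1), (3, [], 0),
  (3, [], 0), (1, [1, 2], 1), (1, [], 2), (1, [], 2), (1, [], 2), (1, [], 6), (1, [], 6), (1, [], 2),
  (1, [1], 1), (1, [1], 3), (1, [1], 1), (1, [1], 1), (1, [1], 1), (1, [1], 3), (1, [], 2), (1, [], 2),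
  (1, [], 2), (1, [], 6), (1, [], 6), (1, [], 2), (1, [], 2), (1, [], 2), (1, [], 2), (1, [], 6),
  (1, [], 6), (1, [], 2), (1, [1], 1), (1, [1], 3), (1, [1], 1), (1, [1], 1), (1, [1], 1), (1, [1], 3)]

/-- certificates, piece 5 -/
def wit5 : List (ℕ × List ℕ × ℕ) := [
  (1, [], 3), (1, [], 3), (1, [], 3), (1, [], 3), (1, [], 3), (1, [], 3), (1, [1], 1), (1, [], 3),
  (1, [], 3), (1, [1], 1), (1, [1], 1), (1, [], 3), (1, [1], 1), (1, [], 3), (1, [], 3), (1, [1], 1),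
  (1, [1], 1), (1, [], 3), (1, [], 3), (1, [], 3), (1, [], 3), (1, [], 3), (1, [], 3), (1, [], 3),
  (1, [4], 1), (1, [4], 3), (1, [4], 1), (1, [4], 1), (1, [4], 1), (1, [4], 3), (1, [], 2), (1, [], 2),
  (1, [], 2), (1, [], 6), (1, [], 6), (1, [], 2), (1, [], 2), (1, [], 2), (1, [], 2), (1, [], 6),
  (1, [], 6), (1, [], 2), (1, [4], 1), (1, [4], 3), (1, [4], 1), (1, [4], 1), (1, [4], 1), (1, [4], 3),
  (1, [1], 1), (1, [], 3), (1, [], 3), (1, [1], 1), (1, [1], 1), (1, [], 3), (1, [], 3), (1, [], 3),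
  (1, [], 3), (1, [], 3), (1, [], 3), (1, [], 3), (1, [], 3), (1, [], 3), (1, [], 3), (1, [], 3),
  (1, [], 3), (1, [], 3), (1, [1], 1), (1, [], 3), (1, [], 3), (1, [1], 1), (1, [1], 1), (1, [], 3),
  (1, [], 2), (1, [], 2), (1, [], 2), (1, [], 6), (1, [], 6), (1, [], 2), (1, [4], 1), (1, [4], 3),
  (1, [4], 1), (1, [4], 1), (1, [4], 1), (1, [4], 3), (1, [4], 1), (1, [4], 3), (1, [4], 1), (1, [4], 1),
  (1, [4], 1), (1, [4], 3), (1, [], 2), (1, [], 2), (1, [], 2), (1, [], 6), (1, [], 6), (1, [], 2),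
  (1, [], 2), (1, [], 2), (1, [], 2), (1, [], 6), (1, [], 6), (1, [], 2), (1, [], 2), (1, [], 2),
  (1, [], 2), (1, [], 6), (1, [], 6), (1, [], 2), (1, [], 1), (1, [], 1), (1, [], 1), (1, [], 3),
  (1, [], 3), (1, [], 1), (1, [], 1), (1, [], 1), (1, [], 1), (1, [], 3), (1, [], 3), (1, [], 1),
  (1, [], 3), (1, [], 3), (1, [], 3), (1, [], 3), (1, [], 3), (1, [], 3), (1, [1], 1), (1, [], 3),
  (1, [], 3), (1, [1], 1), (1, [1], 1), (1, [], 3), (1, [1], 1), (1, [], 3), (1, [], 3), (1, [1], 1),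
  (1, [1], 1), (1, [], 3), (1, [], 3), (1, [], 3), (1, [], 3), (1, [], 3), (1, [], 3), (1, [], 3),
  (1, [], 2), (1, [], 2), (1, [], 2), (1, [], 6), (1, [], 6), (1, [], 2), (1, [], 2), (1, [], 2),
  (1, [], 2), (1, [], 6), (1, [], 6), (1, [], 2), (1, [], 1), (1, [], 1), (1, [], 1), (1, [], 3),
  (1, [], 3), (1, [], 1), (1, [], 1), (1, [], 1), (1, [], 1), (1, [], 3), (1, [], 3), (1, [], 1),
  (1, [1], 1), (1, [], 3), (1, [], 3), (1, [1], 1), (1, [1], 1), (1, [], 3), (1, [], 3), (1, [], 3),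
  (1, [], 3), (1, [], 3), (1, [], 3), (1, [], 3), (1, [], 3), (1, [], 3), (1, [], 3), (1, [], 3),
  (1, [], 3), (1, [], 3), (1, [1], 1), (1, [], 3), (1, [], 3), (1, [1], 1), (1, [1], 1), (1, [], 3),
  (1, [], 2), (1, [], 2), (1, [], 2), (1, [], 6), (1, [], 6), (1, [], 2), (3, [], 0), (1, [1, 2], 1),
  (1, [1, 2], 1), (3, [], 0), (3, [], 0), (1, [1, 2], 1), (1, [], 1), (1, [], 1), (1, [], 1), (1, [], 3),
  (1, [], 3), (1, [], 1), (1, [], 2), (1, [], 2), (1, [], 2), (1, [], 6), (1, [], 6), (1, [], 2),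
  (1, [1], 1), (1, [1], 3), (1, [1], 1), (1, [1], 1), (1, [1], 1), (1, [1], 3), (1, [], 2), (1, [], 2),
  (1, [], 2), (1, [], 6), (1, [], 6), (1, [], 2), (1, [], 2), (1, [], 2), (1, [], 2), (1, [], 6),
  (1, [], 6), (1, [], 2), (1, [1], 1), (1, [1], 3), (1, [1], 1), (1, [1], 1), (1, [1], 1), (1, [1], 3),
  (3, [], 0), (1, [1, 2], 1), (1, [1, 2], 1), (3, [], 0), (3, [], 0), (1, [1, 2], 1), (1, [], 2), (1, [], 2),
  (1, [], 2), (1, [], 6), (1, [], 6), (1, [], 2), (1, [], 2), (1, [], 2), (1, [], 2), (1, [], 6),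
  (1, [], 6), (1, [], 2), (1, [], 1), (1, [], 1), (1, [], 1), (1, [], 3), (1, [], 3), (1, [], 1),
  (1, [], 2), (1, [], 2), (1, [], 2), (1, [], 6), (1, [], 6), (1, [], 2), (1, [1], 1), (1, [1], 3),
  (1, [1], 1), (1, [1], 1), (1, [1], 1), (1, [1], 3), (1, [1], 1), (1, [1], 3), (1, [1], 1), (1, [1], 1),
  (1, [1], 1), (1, [1], 3), (1, [], 2), (1, [], 2), (1, [], 2), (1, [], 6), (1, [], 6), (1, [], 2)]

/-- certificates, piece 6 -/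
def wit6 : List (ℕ × List ℕ × ℕ) := [
  (1, [], 2), (1, [], 2), (1, [], 2), (1, [], 6), (1, [], 6), (1, [], 2), (1, [5], 1), (1, [5], 3),
  (1, [5], 1), (1, [5], 1), (1, [5], 1), (1, [5], 3), (1, [5], 1), (1, [5], 3), (1, [5], 1), (1, [5], 1),
  (1, [5], 1), (1, [5], 3), (1, [], 2), (1, [], 2), (1, [], 2), (1, [], 6), (1, [], 6), (1, [], 2),
  (1, [1], 1), (1, [], 3), (1, [], 3), (1, [1], 1), (1, [1], 1), (1, [], 3), (1, [], 3), (1, [], 3),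
  (1, [], 3), (1, [], 3), (1, [], 3), (1, [], 3), (1, [], 3), (1, [], 3), (1, [], 3), (1, [], 3),
  (1, [], 3), (1, [], 3), (1, [1], 1), (1, [], 3), (1, [], 3), (1, [1], 1), (1, [1], 1), (1, [], 3),
  (1, [5], 1), (1, [5], 3), (1, [5], 1), (1, [5], 1), (1, [5], 1), (1, [5], 3), (1, [], 2), (1, [], 2),
  (1, [], 2), (1, [], 6), (1, [], 6), (1, [], 2), (1, [], 2), (1, [], 2), (1, [], 2), (1, [], 6),
  (1, [], 6), (1, [], 2), (1, [5], 1), (1, [5], 3), (1, [5], 1), (1, [5], 1), (1, [5], 1), (1, [5], 3),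
  (1, [], 3), (1, [], 3), (1, [], 3), (1, [], 3), (1, [], 3), (1, [], 3), (1, [1], 1), (1, [], 3),
  (1, [], 3), (1, [1], 1), (1, [1], 1), (1, [], 3), (1, [1], 1), (1, [], 3), (1, [], 3), (1, [1], 1),
  (1, [1], 1), (1, [], 3), (1, [], 3), (1, [], 3), (1, [], 3), (1, [], 3), (1, [], 3), (1, [], 3),
  (1, [1], 1), (1, [], 3), (1, [], 3), (1, [1], 1), (1, [1], 1), (1, [], 3), (1, [], 3), (1, [], 3),
  (1, [], 3), (1, [], 3), (1, [], 3), (1, [], 3), (1, [], 3), (1, [], 3), (1, [], 3), (1, [], 3),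
  (1, [], 3), (1, [], 3), (1, [1], 1), (1, [], 3), (1, [], 3), (1, [1], 1), (1, [1], 1), (1, [], 3),
  (1, [], 1), (1, [], 1), (1, [], 1), (1, [], 3), (1, [], 3), (1, [], 1), (1, [], 2), (1, [], 2),
  (1, [], 2), (1, [], 6), (1, [], 6), (1, [], 2), (1, [], 1), (1, [], 1), (1, [], 1), (1, [], 3),
  (1, [], 3), (1, [], 1), (1, [], 2), (1, [], 2), (1, [], 2), (1, [], 6), (1, [], 6), (1, [], 2),
  (1, [], 3), (1, [], 3), (1, [], 3), (1, [], 3), (1, [], 3), (1, [], 3), (1, [1], 1), (1, [], 3),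
  (1, [], 3), (1, [1], 1), (1, [1], 1), (1, [], 3), (1, [1], 1), (1, [], 3), (1, [], 3), (1, [1], 1),
  (1, [1], 1), (1, [], 3), (1, [], 3), (1, [], 3), (1, [], 3), (1, [], 3), (1, [], 3), (1, [], 3),
  (1, [], 1), (1, [], 1), (1, [], 1), (1, [], 3), (1, [], 3), (1, [], 1), (1, [], 2), (1, [], 2),
  (1, [], 2), (1, [], 6), (1, [], 6), (1, [], 2), (1, [], 1), (1, [], 1), (1, [], 1), (1, [], 3),
  (1, [], 3), (1, [], 1), (1, [], 2), (1, [], 2), (1, [], 2), (1, [], 6), (1, [], 6), (1, [], 2),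
  (1, [], 2), (1, [], 2), (1, [], 2), (1, [], 6), (1, [], 6), (1, [], 2), (1, [1], 1), (1, [1], 3),
  (1, [1], 1), (1, [1], 1), (1, [1], 1), (1, [1], 3), (1, [1], 1), (1, [1], 3), (1, [1], 1), (1, [1], 1),
  (1, [1], 1), (1, [1], 3), (1, [], 2), (1, [], 2), (1, [], 2), (1, [], 6), (1, [], 6), (1, [], 2),
  (1, [], 1), (1, [], 1), (1, [], 1), (1, [], 3), (1, [], 3), (1, [], 1), (1, [], 2), (1, [], 2),
  (1, [], 2), (1, [], 6), (1, [], 6), (1, [], 2), (1, [], 2), (1, [], 2), (1, [], 2), (1, [], 6),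
  (1, [], 6), (1, [], 2), (3, [], 0), (1, [1, 5], 1), (1, [1, 5], 1), (3, [], 0), (3, [], 0), (1, [1, 5], 1),
  (1, [1], 1), (1, [1], 3), (1, [1], 1), (1, [1], 1), (1, [1], 1), (1, [1], 3), (1, [], 2), (1, [], 2),
  (1, [], 2), (1, [], 6), (1, [], 6), (1, [], 2), (1, [], 2), (1, [], 2), (1, [], 2), (1, [], 6),
  (1, [], 6), (1, [], 2), (1, [1], 1), (1, [1], 3), (1, [1], 1), (1, [1], 1), (1, [1], 1), (1, [1], 3),
  (1, [], 2), (1, [], 2), (1, [], 2), (1, [], 6), (1, [], 6), (1, [], 2), (3, [], 0), (1, [1, 5], 1),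
  (1, [1, 5], 1), (3, [], 0), (3, [], 0), (1, [1, 5], 1), (1, [], 1), (1, [], 1), (1, [], 1), (1, [], 3),
  (1, [], 3), (1, [], 1), (1, [], 2), (1, [], 2), (1, [], 2), (1, [], 6), (1, [], 6), (1, [], 2)]

/-- certificates, piece 7 -/
def wit7 : List (ℕ × List ℕ × ℕ) := [
  (1, [5], 1), (1, [5], 3), (1, [5], 1), (1, [5], 1), (1, [5], 1), (1, [5], 3), (1, [], 2), (1, [], 2),
  (1, [], 2), (1, [], 6), (1, [], 6), (1, [], 2), (1, [], 2), (1, [], 2), (1, [], 2), (1, [], 6),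
  (1, [], 6), (1, [], 2), (1, [5], 1), (1, [5], 3), (1, [5], 1), (1, [5], 1), (1, [5], 1), (1, [5], 3),
  (1, [], 3), (1, [], 3), (1, [], 3), (1, [], 3), (1, [], 3), (1, [], 3), (1, [1], 1), (1, [], 3),
  (1, [], 3), (1, [1], 1), (1, [1], 1), (1, [], 3), (1, [1], 1), (1, [], 3), (1, [], 3), (1, [1], 1),
  (1, [1], 1), (1, [], 3), (1, [], 3), (1, [], 3), (1, [], 3), (1, [], 3), (1, [], 3), (1, [], 3),
  (1, [], 2), (1, [], 2), (1, [], 2), (1, [], 6), (1, [], 6), (1, [], 2), (1, [5], 1), (1, [5], 3),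
  (1, [5], 1), (1, [5], 1), (1, [5], 1), (1, [5], 3), (1, [5], 1), (1, [5], 3), (1, [5], 1), (1, [5], 1),
  (1, [5], 1), (1, [5], 3), (1, [], 2), (1, [], 2), (1, [], 2), (1, [], 6), (1, [], 6), (1, [], 2),
  (1, [1], 1), (1, [], 3), (1, [], 3), (1, [1], 1), (1, [1], 1), (1, [], 3), (1, [], 3), (1, [], 3),
  (1, [], 3), (1, [], 3), (1, [], 3), (1, [], 3), (1, [], 3), (1, [], 3), (1, [], 3), (1, [], 3),
  (1, [], 3), (1, [], 3), (1, [1], 1), (1, [], 3), (1, [], 3), (1, [1], 1), (1, [1], 1), (1, [], 3),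
  (1, [], 3), (1, [], 3), (1, [], 3), (1, [], 3), (1, [], 3), (1, [], 3), (1, [1], 1), (1, [], 3),
  (1, [], 3), (1, [1], 1), (1, [1], 1), (1, [], 3), (1, [1], 1), (1, [], 3), (1, [], 3), (1, [1], 1),
  (1, [1], 1), (1, [], 3), (1, [], 3), (1, [], 3), (1, [], 3), (1, [], 3), (1, [], 3), (1, [], 3),
  (1, [], 2), (1, [], 2), (1, [], 2), (1, [], 6), (1, [], 6), (1, [], 2), (1, [], 1), (1, [], 1),
  (1, [], 1), (1, [], 3), (1, [], 3), (1, [], 1), (1, [], 2), (1, [], 2), (1, [], 2), (1, [], 6),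
  (1, [], 6), (1, [], 2), (1, [], 1), (1, [], 1), (1, [], 1), (1, [], 3), (1, [], 3), (1, [], 1),
  (1, [1], 1), (1, [], 3), (1, [], 3), (1, [1], 1), (1, [1], 1), (1, [], 3), (1, [], 3), (1, [], 3),
  (1, [], 3), (1, [], 3), (1, [], 3), (1, [], 3), (1, [], 3), (1, [], 3), (1, [], 3), (1, [], 3),
  (1, [], 3), (1, [], 3), (1, [1], 1), (1, [], 3), (1, [], 3), (1, [1], 1), (1, [1], 1), (1, [], 3),
  (1, [], 2), (1, [], 2), (1, [], 2), (1, [], 6), (1, [], 6), (1, [], 2), (1, [], 1), (1, [], 1),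
  (1, [], 1), (1, [], 3), (1, [], 3), (1, [], 1), (1, [], 2), (1, [], 2), (1, [], 2), (1, [], 6),
  (1, [], 6), (1, [], 2), (1, [], 1), (1, [], 1), (1, [], 1), (1, [], 3), (1, [], 3), (1, [], 1),
  (1, [1], 1), (1, [1], 3), (1, [1], 1), (1, [1], 1), (1, [1], 1), (1, [1], 3), (1, [], 2), (1, [], 2),
  (1, [], 2), (1, [], 6), (1, [], 6), (1, [], 2), (1, [], 2), (1, [], 2), (1, [], 2), (1, [], 6),
  (1, [], 6), (1, [], 2), (1, [1], 1), (1, [1], 3), (1, [1], 1), (1, [1], 1), (1, [1], 1), (1, [1], 3),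
  (1, [], 2), (1, [], 2), (1, [], 2), (1, [], 6), (1, [], 6), (1, [], 2), (1, [], 1), (1, [], 1),
  (1, [], 1), (1, [], 3), (1, [], 3), (1, [], 1), (3, [], 0), (1, [1, 5], 1), (1, [1, 5], 1), (3, [], 0),
  (3, [], 0), (1, [1, 5], 1), (1, [], 2), (1, [], 2), (1, [], 2), (1, [], 6), (1, [], 6), (1, [], 2),
  (1, [], 2), (1, [], 2), (1, [], 2), (1, [], 6), (1, [], 6), (1, [], 2), (1, [1], 1), (1, [1], 3),
  (1, [1], 1), (1, [1], 1), (1, [1], 1), (1, [1], 3), (1, [1], 1), (1, [1], 3), (1, [1], 1), (1, [1], 1),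
  (1, [1], 1), (1, [1], 3), (1, [], 2), (1, [], 2), (1, [], 2), (1, [], 6), (1, [], 6), (1, [], 2),
  (3, [], 0), (1, [1, 5], 1), (1, [1, 5], 1), (3, [], 0), (3, [], 0), (1, [1, 5], 1), (1, [], 2), (1, [], 2),
  (1, [], 2), (1, [], 6), (1, [], 6), (1, [], 2), (1, [], 2), (1, [], 2), (1, [], 2), (1, [], 6),
  (1, [], 6), (1, [], 2), (1, [], 1), (1, [], 1), (1, [], 1), (1, [], 3), (1, [], 3), (1, [], 1)]

end CfsgLib.LyStd
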