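import Cfsg.Agent.Lib.LyStd.Checks
import Cfsg.Agent.S4337

/-!
Facts about the symmetric group on eleven points.
-/

set_option autoImplicit false
set_option maxRecDepth 100000

open scoped commutatorElement

namespace CfsgLib.LyStd

open Equiv CfsgLib.CosetEnum CfsgLib.LyPres CfsgLib.LyCent CfsgLib.LyCent.Fus CfsgLib.LyCent.Out
  CfsgLib.LyRecog

/-- An involution of eleven points lies in no perfect group centralising it. -/
theorem not_mem_perfect {τ : Perm (Fin 11)} (h2 : τ * τ = 1) (h1 : τ ≠ 1) {P : Subgroup (Perm (Fin 11))}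
    (hP : ⁅P, P⁆ = P) (hc : ∀ p ∈ P, p * τ = τ * p) : τ ∉ P := by
  classical
  intro hτ
  have hsign : Perm.sign τ = 1 := by
    have hle : ⁅P, P⁆ ≤ Perm.sign.ker := by
      rw [Subgroup.commutator_le]
      intro a _ b _
      rw [MonoidHom.mem_ker, map_commutatorElement, commutatorElement_eq_one_iff_mul_comm, mul_comm]
    exact MonoidHom.mem_ker.mp (hle (hP.symm ▸ hτ))
  obtain ⟨n, hn, hcard⟩ := cycleType_of_sq h2 h1
  rw [Perm.sign_of_cycleType, hn, Multiset.sum_replicate, Multiset.card_replicate, smul_eq_mul] at hsign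
  have hle : τ.support.card ≤ 11 := (Finset.card_le_univ _).trans (Fintype.card_fin 11).le
  have hn3 : n + 1 ≤ 4 := by
    by_contra hn4
    obtain rfl : n = 4 := by omega
    exact absurd hsign (by decide)
  -- the pairs
  let Pr : Finset (Finset (Fin 11)) := τ.support.image fun a => {a, τ a}
  have hττ : ∀ a, τ (τ a) = a := fun a => by rw [← Perm.mul_apply, h2, Perm.one_apply]
  have hpr : ∀ a ∈ τ.support, ∀ s ∈ Pr, a ∈ s → s = {a, τ a} := by
    intro a _ s hs has
    obtain ⟨b, _, rfl⟩ := Finset.mem_image.mp hs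
    rcases Finset.mem_insert.mp has with rfl | h
    · rfl
    · rw [Finset.mem_singleton.mp h, hττ, Finset.pair_comm]
  have hPr : Pr.card ≤ 4 := by
    have hmul : 2 * Pr.card ≤ τ.support.card := by
      have h := Finset.card_eq_sum_card_image (fun a => ({a, τ a} : Finset (Fin 11))) τ.support
      rw [h]
      calc 2 * Pr.card = ∑ _s ∈ Pr, 2 := by rw [Finset.sum_const, smul_eq_mul, mul_comm]
        _ ≤ _ := Finset.sum_le_sum fun s hs => by
          obtain ⟨b, hb, rfl⟩ := Finset.mem_image.mp hs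
          have hne : b ≠ τ b := fun e => Perm.mem_support.mp hb e.symm
          rw [← Finset.card_pair hne]
          refine Finset.card_le_card fun x hx => ?_
          rw [Finset.mem_filter]
          rcases Finset.mem_insert.mp hx with rfl | h
          · exact ⟨hb, rfl⟩
          · rw [Finset.mem_singleton.mp h, Perm.mem_support, hττ]
            exact ⟨hne, Finset.pair_comm _ _⟩
    omega
  have hmap : ∀ p ∈ P, ∀ s ∈ Pr, s.image p ∈ Pr := by
    intro p hp s hs
    obtain ⟨b, hb, rfl⟩ := Finset.mem_image.mp hs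
    have e : p (τ b) = τ (p b) := by rw [← Perm.mul_apply, hc p hp, Perm.mul_apply]
    refine Finset.mem_image.mpr ⟨p b, ?_, ?_⟩
    · rw [Perm.mem_support, ← e]
      exact fun h => Perm.mem_support.mp hb (p.injective h)
    · rw [Finset.image_insert, Finset.image_singleton, e]
  let act : P →* Perm {s // s ∈ Pr} :=
    { toFun := fun p =>
        { toFun := fun s => ⟨s.1.image p.1, hmap p.1 p.2 s.1 s.2⟩
          invFun := fun s => ⟨s.1.image ((p⁻¹ : P) : Perm (Fin 11)), hmap _ (p⁻¹).2 s.1 s.2⟩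
          left_inv := fun s => Subtype.ext (by simp [Finset.image_image])
          right_inv := fun s => Subtype.ext (by simp [Finset.image_image]) }
      map_one' := Equiv.ext fun s => Subtype.ext (by simp)
      map_mul' := fun p q => Equiv.ext fun s => Subtype.ext (by
        show s.1.image (p.1 * q.1) = (s.1.image q.1).image p.1
        rw [Finset.image_image]; rfl) }
  have hperf : commutator P = ⊤ := by
    refine Subgroup.map_injective P.subtype_injective ?_
    rw [map_commutator_eq, ← MonoidHom.range_eq_map, Subgroup.range_subtype]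
    exact hP
  haveI : Group.IsSolvable (Perm {s // s ∈ Pr}) :=
    CfsgLib.SmallPerm.isSolvable_perm_card_le_four (by rwa [Fintype.card_coe])
  have htriv : ∀ p : P, act p = 1 := by
    by_contra hcon
    push Not at hcon
    obtain ⟨p, hp⟩ := hcon
    have hr : commutator act.range = ⊤ := by
      have h := Subgroup.map_commutator (⊤ : Subgroup P) ⊤ act.rangeRestrict
      rw [← commutator_def, hperf, Subgroup.map_top_of_surjective _ act.rangeRestrict_surjective] at h
      rw [commutator_def]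
      exact h.symm
    haveI : Nontrivial act.range := ⟨⟨act p, p, rfl⟩, 1, fun e => hp (congrArg Subtype.val e)⟩
    exact (Group.IsSolvable.commutator_lt_top_of_nontrivial act.range).ne hr
  have hfix : ∀ p : P, ∀ a ∈ τ.support, p.1 a = a ∨ p.1 a = τ a := by
    intro p a ha
    have h := congrArg (fun e : Perm {s // s ∈ Pr} => (e ⟨_, Finset.mem_image_of_mem _ ha⟩).1) (htriv p)
    have hmem : p.1 a ∈ ({a, τ a} : Finset (Fin 11)) := by
      have h' : Finset.image p.1 {a, τ a} = {a, τ a} := h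
      rw [← h']
      exact Finset.mem_image_of_mem _ (Finset.mem_insert_self _ _)
    simpa using hmem
  -- the restrictions commute
  obtain ⟨a, ha⟩ : τ.support.Nonempty := Finset.card_pos.mp (by omega)
  have hpt : ∀ r : P, r.1 (τ a) = τ (r.1 a) := fun r => by
    rw [← Perm.mul_apply, hc r.1 r.2, Perm.mul_apply]
  have hne : τ a ≠ a := Perm.mem_support.mp ha
  let χ : P →* ℤˣ :=
    { toFun := fun p => if p.1 a = a then 1 else -1
      map_one' := by simp
      map_mul' := fun p q => by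
        simp only [Subgroup.coe_mul, Perm.mul_apply]
        rcases hfix p a ha with hp | hp <;> rcases hfix q a ha with hq | hq <;>
          simp [hp, hq, hpt, hττ, hne] }
  have hker : commutator P ≤ χ.ker := by
    rw [commutator_def, Subgroup.commutator_le]
    intro x _ y _
    rw [MonoidHom.mem_ker, map_commutatorElement, commutatorElement_eq_one_iff_mul_comm, mul_comm]
  have h := MonoidHom.mem_ker.mp (hker (hperf.symm ▸ Subgroup.mem_top (⟨τ, hτ⟩ : P)))
  simp [χ, hne] at h

/-- a finite set of even permutations, each a commutator of two of them, commuting with `τ`, with a double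
transposition among them -/
def HasPerfectSet (τ : Perm (Fin 11)) : Prop :=
  ∃ X : Set (Perm (Fin 11)), (∀ s ∈ X, Perm.sign s = 1 ∧ s * τ = τ * s ∧ ∃ a ∈ X, ∃ b ∈ X, ⁅a, b⁆ = s) ∧
    ∃ d ∈ X, d * d = 1 ∧ d.support.card = 4

theorem okS_spec {S : List (List (Fin 11 × Fin 11))} {I : List (ℕ × ℕ)}
    {T : List (List (Fin 11 × Fin 11))} (h : okS S I T = true)
    (hd : ∃ m ∈ S, beqL (mulL (sL m) (sL m)) oneL = true ∧ (sP m).support.card = 4) :
    ∀ t ∈ T, HasPerfectSet (sP t) := by
  intro t ht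
  obtain ⟨h1, h2⟩ := Bool.and_eq_true_iff.mp h
  refine ⟨{s | ∃ m ∈ S, s = sP m}, ?_, ?_⟩
  · rintro _ ⟨m, hm, rfl⟩
    obtain ⟨i, hi, rfl⟩ := List.mem_iff_getElem.mp hm
    have hi' : i < I.length := (Nat.eq_of_beq_eq_true h1) ▸ hi
    have hp := List.all_eq_true.mp h2 (S[i], I[i]) (List.mem_iff_getElem.mpr
      ⟨i, by simp [hi, hi'], by simp⟩)
    simp only [Bool.and_eq_true, Nat.blt_eq] at hp
    obtain ⟨⟨⟨⟨⟨hj, hk⟩, he⟩, hsw⟩, hpar⟩, hτ⟩ := hp
    refine ⟨?_, (rep_sP S[i]).mul (rep_sP t) |>.eq ((rep_sP t).mul (rep_sP S[i]))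
      (List.all_eq_true.mp hτ t ht), sP S[I[i].1], ⟨_, List.getElem_mem hj, rfl⟩, sP S[I[i].2],
      ⟨_, List.getElem_mem hk, rfl⟩, ?_⟩
    · rw [sign_sP _ fun u hu e => ?_]
      · exact Even.neg_one_pow (Nat.even_iff.mpr (Nat.eq_of_beq_eq_true hpar))
      · have := List.all_eq_true.mp hsw u hu
        simp only [Bool.not_eq_true', ← Bool.not_eq_true, Nat.beq_eq] at this
        exact this (congrArg Fin.val e)
    · rw [List.getD_eq_getElem _ _ hj, List.getD_eq_getElem _ _ hk] at he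
      have e := RepL.eq ((rep_sP _).mul ((rep_sP _).mul (rep_sP _))) ((rep_sP _).mul (rep_sP _)) he
      rw [commutatorElement_def, ← e]
      group
  · obtain ⟨m, hm, h2, h4⟩ := hd
    exact ⟨_, ⟨m, hm, rfl⟩, RepL.eq ((rep_sP m).mul (rep_sP m)) RepL.one h2, h4⟩

theorem HasPerfectSet.conj {τ : Perm (Fin 11)} (h : HasPerfectSet τ) (g : Perm (Fin 11)) :
    HasPerfectSet (g * τ * g⁻¹) := by
  obtain ⟨X, hX, d, hd, hd2, hd4⟩ := h
  refine ⟨MulAut.conj g '' X, ?_, _, ⟨d, hd, rfl⟩, ?_, ?_⟩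
  · rintro _ ⟨s, hs, rfl⟩
    obtain ⟨h1, h2, a, ha, b, hb, hab⟩ := hX s hs
    refine ⟨?_, ?_, _, ⟨a, ha, rfl⟩, _, ⟨b, hb, rfl⟩, ?_⟩
    · rw [MulAut.conj_apply, map_mul, map_mul, h1, mul_one, map_inv, mul_inv_cancel]
    · rw [← MulAut.conj_apply, ← map_mul, h2, map_mul]
    · rw [← map_commutatorElement, hab]
  · rw [← map_mul, hd2, map_one]
  · rw [MulAut.conj_apply, Perm.support_conj, Finset.card_map, hd4]

/-- An involution not moving eight points centralises such a set. -/
theorem hasPerfectSet_of_invol {τ : Perm (Fin 11)} (h2 : τ * τ = 1) (h1 : τ ≠ 1)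
    (h8 : τ.support.card ≠ 8) : HasPerfectSet τ := by
  obtain ⟨n, -, hcard⟩ := cycleType_of_sq h2 h1
  have hle : τ.support.card ≤ 11 := (Finset.card_le_univ _).trans (Fintype.card_fin 11).le
  obtain ⟨hr, hfive, hpair, -⟩ := chk_reps
  have key : ∀ t, (t = [(5, 6)] ∨ t = [(5, 6), (7, 8)] ∨
      t = [(5, 6), (7, 8), (9, 10)] ∨ t = [(0, 1), (2, 3), (4, 5), (6, 7), (8, 9)]) →
      t.length = n + 1 → HasPerfectSet (sP t) → HasPerfectSet τ := by
    intro t ht hlen hS
    obtain ⟨e1, e2⟩ := hr t ht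
    obtain ⟨g, hg⟩ := isConj_iff.mp (isConj_of_support h2
      (RepL.eq ((rep_sP t).mul (rep_sP t)) RepL.one e1) (by rw [hcard, e2, hlen]))
    rw [← hg]
    exact hS.conj g
  have hn : n = 0 ∨ n = 1 ∨ n = 2 ∨ n = 4 := by omega
  rcases hn with rfl | rfl | rfl | rfl
  · exact key _ (Or.inl rfl) rfl (okS_spec chk_five hfive _ (by simp [fiveT]))
  · exact key _ (Or.inr (Or.inl rfl)) rfl (okS_spec chk_five hfive _ (by simp [fiveT]))
  · exact key _ (Or.inr (Or.inr (Or.inl rfl))) rfl (okS_spec chk_five hfive _ (by simp [fiveT]))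
  · exact key _ (Or.inr (Or.inr (Or.inr rfl))) rfl (okS_spec chk_pair hpair _ (by simp [pairT]))

theorem rep_c : RepL cL cP ∧ RepL cL' cP⁻¹ := by
  obtain ⟨-, -, -, e1, e2, e3⟩ := chk_reps
  have hc : RepL cL cP := fun x => by rw [← beqL_iff.mp e1]; exact rep_sP _ x
  have h3 : cP * cP = cP⁻¹ := by
    have h : (cP * cP) * cP = 1 := by
      rw [mul_assoc]
      exact RepL.eq (hc.mul (hc.mul hc)) RepL.one (by rw [beqL_iff.mp e2]; exact e3)
    exact eq_inv_of_mul_eq_one_left h
  refine ⟨hc, fun x => ?_⟩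
  rw [← h3, ← beqL_iff.mp e2]
  exact hc.mul hc x

theorem hasPerfectSet_c : HasPerfectSet cP ∧ HasPerfectSet cP⁻¹ := by
  obtain ⟨-, hfive, -, -⟩ := chk_reps
  refine ⟨okS_spec chk_five hfive _ (by simp [fiveT]), ?_⟩
  have e : cP⁻¹ = sP [(8, 10), (10, 9)] :=
    RepL.eq rep_c.2 (rep_sP _) (by decide +kernel)
  rw [e]
  exact okS_spec chk_five hfive _ (by simp [fiveT])

theorem exists_cand {q : Perm (Fin 11)} (h : q * pW 0 = pW 0 * q) :
    ∃ (j : ℕ) (l : List ℕ), cands[j]? = some l ∧ RepL l q :=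
  mem_cands q h

theorem invol_iff {l : List ℕ} {q : Perm (Fin 11)} (hl : RepL l q) (hlen : l.length = 11)
    (h2 : q * q = 1) (h1 : q ≠ 1) (hW : q ≠ pW 0) : invol l = true := by
  simp only [invol, Bool.and_eq_true, Bool.not_eq_true', ← Bool.not_eq_true]
  exact ⟨⟨RepL.eq_mul (hl.mul hl) RepL.one (by simp [mulL]) rfl h2,
    fun e => h1 (hl.eq RepL.one e)⟩, fun e => hW (hl.eq rep_W e)⟩

theorem length_cand {j : ℕ} {l : List ℕ} (h : cands[j]? = some l) : l.length = 11 := by
  have hm := List.mem_of_getElem? h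
  simp only [cands, List.mem_flatMap, List.mem_map] at hm
  obtain ⟨a, -, b, -, c, -, d, -, e, he, rfl⟩ := hm
  simp only [List.mem_cons, List.not_mem_nil, or_false] at he
  rcases he with rfl | rfl | rfl | rfl | rfl | rfl <;> rfl

/-- An involution commuting with `W` is moved by an element of order three centralised by it. -/
theorem exists_move {q : Perm (Fin 11)} (h : q * pW 0 = pW 0 * q) (h2 : q * q = 1) (h1 : q ≠ 1)
    (hW : q ≠ pW 0) :
    ∃ x : Perm (Fin 11), x * x * x = 1 ∧ Perm.sign x = 1 ∧ x * q = q * x ∧ x * pW 0 ≠ pW 0 * x := by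
  obtain ⟨j, l, hj, hl⟩ := exists_cand h
  have hlen := length_cand hj
  have hc := List.all_eq_true.mp chk_move l (List.mem_of_getElem? hj)
  rw [invol_iff hl hlen h2 h1 hW] at hc
  simp only [Bool.not_true, Bool.false_or, List.any_eq_true, Bool.and_eq_true, Bool.not_eq_true'] at hc
  obtain ⟨m, hm, e1, e2⟩ := hc
  obtain ⟨s1, s2, s3⟩ := chk_moveS m hm
  refine ⟨sP m, ?_, ?_, RepL.eq ((rep_sP m).mul hl) (hl.mul (rep_sP m)) e1, fun e => ?_⟩
  · rw [mul_assoc]
    exact RepL.eq ((rep_sP m).mul ((rep_sP m).mul (rep_sP m))) RepL.one s3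
  · rw [sign_sP m s1]
    exact Even.neg_one_pow (Nat.even_iff.mpr (Nat.eq_of_beq_eq_true s2))
  · rw [RepL.eq_mul ((rep_sP m).mul rep_W) (rep_W.mul (rep_sP m)) (by simp [mulL]) (by simp [mulL]) e] at e2
    exact Bool.noConfusion e2

/-- A group normalised by the conjugators whose involutions are `W` consists of few elements. -/
theorem classify {K : Subgroup (Perm (Fin 11))} (hW : ∀ x ∈ K, x * pW 0 = pW 0 * x)
    (hinv : ∀ x ∈ K, x * x = 1 → x ≠ 1 → x = pW 0)
    (hconj : ∀ l : List ℕ, (∀ g ∈ l, g < 3) → ∀ x ∈ K, yPerm l * x * (yPerm l)⁻¹ ∈ K)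
    {q : Perm (Fin 11)} (hq : q ∈ K) :
    q = 1 ∨ q = pW 0 ∨ q ^ 4 = cP ∨ q ^ 4 = cP⁻¹ ∨
      (q ^ 3 * q ^ 3 = pW 0 ∧
        ∀ r : Perm (Fin 11), r * pW 0 = pW 0 * r → r * r * r = 1 → r * q ^ 3 = q ^ 3 * r →
          r = 1 ∨ r = cP ∨ r = cP⁻¹) := by
  obtain ⟨j, l, hj, hl⟩ := exists_cand (hW q hq)
  have hjlt : j < 2304 := chk_len ▸ (List.getElem?_eq_some_iff.mp hj).1
  obtain ⟨k, hk, i, hi, rfl⟩ : ∃ k < 8, ∃ i < 288, j = 288 * k + i :=
    ⟨j / 288, by omega, j % 288, Nat.mod_lt _ (by norm_num), (Nat.div_add_mod j 288).symm⟩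
  have hpiece : okPiece k = true := by
    interval_cases k
    exacts [chk0, chk1, chk2, chk3, chk4, chk5, chk6, chk7]
  obtain ⟨hall, hlen'⟩ := Bool.and_eq_true_iff.mp hpiece
  have hwl : i < (wits k).length := (Nat.eq_of_beq_eq_true hlen').symm ▸ hi
  have hget : ((cands.drop (288 * k)).take 288)[i]? = some l := by
    rw [List.getElem?_take, if_pos hi, List.getElem?_drop]; exact hj
  have hok := List.all_eq_true.mp hall (l, (wits k)[i]) (List.mem_iff_getElem?.mpr
    ⟨i, List.getElem?_zip_eq_some.mpr ⟨hget, List.getElem?_eq_getElem hwl⟩⟩)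
  rcases hw : (wits k)[i] with ⟨kind, sel, e⟩
  rw [hw] at hok
  obtain ⟨rc, rc'⟩ := rep_c
  simp only [okC] at hok
  cases h0 : Nat.beq kind 0
  swap
  · simp only [h0, cond_true, Bool.or_eq_true] at hok
    rcases hok with h | h
    · exact Or.inl (hl.eq RepL.one h)
    · exact Or.inr (Or.inl (hl.eq rep_W h))
  simp only [h0, cond_false] at hok
  cases h1 : Nat.beq kind 1
  swap
  · simp only [h1, cond_true, Bool.and_eq_true, List.all_eq_true, Nat.blt_eq] at hok
    obtain ⟨hsel, hinvol⟩ := hok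
    exfalso
    have key : ∀ (s : List ℕ) (p : List ℕ) (pp : Perm (Fin 11)), (∀ x ∈ s, x < 13) → pp ∈ K → RepL p pp →
        ∃ r ∈ K, RepL (s.foldl (fun p x => mulL p (conjY l x)) p) r := by
      intro s
      induction s with
      | nil => exact fun p pp _ h1 h2 => ⟨pp, h1, h2⟩
      | cons x s ih =>
        intro p pp hs hpp hp
        obtain ⟨hy1, hy2, hy3⟩ := chk_y x (hs x List.mem_cons_self)
        refine ih _ (pp * (yPerm (yPaths.getD x []) * q * (yPerm (yPaths.getD x []))⁻¹))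
          (fun u hu => hs u (List.mem_cons_of_mem _ hu)) (K.mul_mem hpp (hconj _ hy1 q hq)) ?_
        rw [mul_assoc (yPerm _) q]
        exact hp.mul ((rep_path _ hy1).mul (hl.mul ((rep_path _ hy1).inv hy2 hy3)))
    obtain ⟨r, hr, hrep⟩ := key sel l q hsel hq hl
    simp only [invol, Bool.and_eq_true, Bool.not_eq_true'] at hinvol
    obtain ⟨⟨i1, i2⟩, i3⟩ := hinvol
    have hp := hrep.pow e
    refine absurd (hinv (r ^ e) (K.pow_mem hr e) (RepL.eq (hp.mul hp) RepL.one i1) fun h => ?_) fun h => ?_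
    · rw [RepL.eq_mul hp RepL.one ?_ rfl h] at i2
      · exact Bool.noConfusion i2
      · cases e <;> simp [pwL, mulL, oneL]
    · rw [RepL.eq_mul hp rep_W ?_ rfl h] at i3
      · exact Bool.noConfusion i3
      · cases e <;> simp [pwL, mulL, oneL]
  simp only [h1, cond_false] at hok
  cases h2 : Nat.beq kind 2
  swap
  · simp only [h2, cond_true, Bool.or_eq_true] at hok
    rcases hok with h | h
    · exact Or.inr (Or.inr (Or.inl ((hl.pow 4).eq rc h)))
    · exact Or.inr (Or.inr (Or.inr (Or.inl ((hl.pow 4).eq rc' h))))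
  simp only [h2, cond_false, Bool.and_eq_true, List.all_eq_true] at hok
  obtain ⟨hsq, hthr⟩ := hok
  have h3 := hl.pow 3
  refine Or.inr (Or.inr (Or.inr (Or.inr ⟨(h3.mul h3).eq rep_W hsq, fun r hrW hr3 hrc => ?_⟩)))
  obtain ⟨j', m, hj', hm⟩ := exists_cand hrW
  have hlm := length_cand hj'
  have ht := List.all_eq_true.mp chk_threes m (List.mem_of_getElem? hj')
  rw [RepL.eq_mul (hm.mul (hm.mul hm)) RepL.one (by simp [mulL]) rfl (by rw [← mul_assoc]; exact hr3)] at ht
  simp only [Bool.not_true, Bool.false_or, List.any_eq_true] at ht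
  obtain ⟨t, htmem, htm⟩ := ht
  obtain rfl : m = t := beqL_iff.mp htm
  have h := hthr m htmem
  rw [RepL.eq_mul (hm.mul h3) (h3.mul hm) (by simp [mulL]) (by simp [mulL]) hrc] at h
  simp only [Bool.not_true, Bool.false_or, inC, Bool.or_eq_true] at h
  rcases h with (h | h) | h
  · exact Or.inl (hm.eq RepL.one h)
  · exact Or.inr (Or.inl (hm.eq rc h))
  · exact Or.inr (Or.inr (hm.eq rc' h))

end CfsgLib.LyStd
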