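import Cfsg.Agent.Lib.LyStd.Base

/-!
The conjugates of the central involution in its centraliser lie in the copy of the cover.
-/

set_option autoImplicit false
set_option linter.style.haveILetI false

open scoped commutatorElement

namespace CfsgLib.LyStd

open Equiv CfsgLib.CosetEnum CfsgLib.LyPres CfsgLib.LyCent CfsgLib.LyCent.Fus CfsgLib.LyCent.Out
  CfsgLib.LyRecog

universe u

namespace Ctx

variable {G : Type u} [Group G] (c : Ctx G) [Finite G]

theorem conj_z_sq (h : G) : h * c.z * h⁻¹ * (h * c.z * h⁻¹) = 1 := by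
  calc h * c.z * h⁻¹ * (h * c.z * h⁻¹) = h * (c.z * c.z) * h⁻¹ := by group
    _ = 1 := by rw [c.z_sq, mul_one, mul_inv_cancel]

theorem orderOf_conj_z (h : G) : orderOf (h * c.z * h⁻¹) = 2 := by
  rw [← MulAut.conj_apply, MulEquiv.orderOf_eq, c.orderOf_z]

theorem eq_z_of_mem {h : G} (hh : h ∈ c.N) : h * c.z * h⁻¹ = c.z := by
  rw [c.mem_N.mp hh, mul_inv_cancel_right]

theorem not_mem_of_conj {h : G} (h1 : h * c.z * h⁻¹ ≠ c.z) : h ∉ c.N := fun hh => h1 (c.eq_z_of_mem hh)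

theorem conj_inv_props {h : G} (hN : h * c.z * h⁻¹ ∈ c.N) (h1 : h * c.z * h⁻¹ ≠ c.z) :
    h⁻¹ * c.z * h⁻¹⁻¹ ∈ c.N ∧ h⁻¹ * c.z * h⁻¹⁻¹ ≠ c.z := by
  refine ⟨c.mem_N.mpr ?_, fun e => h1 ?_⟩
  · calc h⁻¹ * c.z * h⁻¹⁻¹ * c.z = h⁻¹ * (c.z * (h * c.z * h⁻¹)) * h := by group
      _ = h⁻¹ * ((h * c.z * h⁻¹) * c.z) * h := by rw [c.mem_N.mp hN]
      _ = _ := by group
  · calc h * c.z * h⁻¹ = h * (h⁻¹ * c.z * h⁻¹⁻¹) * h⁻¹ := by rw [e]
      _ = c.z := by group

theorem sig_conj_z {h : G} (hN : h * c.z * h⁻¹ ∈ c.N) (h1 : h * c.z * h⁻¹ ≠ c.z) :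
    c.sig (h * c.z * h⁻¹) * c.sig (h * c.z * h⁻¹) = 1 ∧ c.sig (h * c.z * h⁻¹) ≠ 1 := by
  refine ⟨by rw [← c.sig_mul hN hN, c.conj_z_sq, c.sig_one], fun e => c.not_mem_of_conj h1 ?_⟩
  exact c.mem_N_of_conj c.z_mem_K c.orderOf_z ((c.sig_eq_one_iff hN).mp e)

/-- No perfect subgroup of the normaliser contains and centralises such an element. -/
theorem perfect_absurd {P : Subgroup G} (hP : ⁅P, P⁆ = P) (hPN : P ≤ c.N) {w : G} (hw : w ∈ P)
    (hc : ∀ p ∈ P, p * w = w * p) (hs : c.sig w * c.sig w = 1) (h1 : c.sig w ≠ 1) : False := by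
  set Q := (P.subgroupOf c.N).map c.sigH with hQ
  have hsub : ⁅P.subgroupOf c.N, P.subgroupOf c.N⁆ = P.subgroupOf c.N := by
    refine Subgroup.map_injective c.N.subtype_injective ?_
    rw [Subgroup.map_commutator, Subgroup.subgroupOf_map_subtype, inf_eq_left.mpr hPN, hP]
  refine not_mem_perfect hs h1 (P := Q) ?_ ?_ ⟨⟨w, hPN hw⟩, hw, rfl⟩
  · rw [hQ, ← Subgroup.map_commutator, hsub]
  · rintro _ ⟨⟨p, hpN⟩, hp, rfl⟩
    exact c.commute_sig hpN (hPN hw) (hc p hp)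

/-- An element centralises the perfect group over a set centralised by its permutation. -/
theorem commute_perfect {n : G} (hn : n ∈ c.N) {X : Set (Perm (Fin 11))}
    (hX : ∀ s ∈ X, s * c.sig n = c.sig n * s) {R : Subgroup subX}
    (hR : R = Subgroup.closure {r | ∃ a b : subX, piX a ∈ X ∧ piX b ∈ X ∧ piX ⁅a, b⁆ ∈ X ∧ r = ⁅a, b⁆}) :
    ∀ r ∈ R, n * c.ι r = c.ι r * n := by
  have hle : R ≤ (Subgroup.centralizer ({n} : Set G)).comap c.ι := by
    rw [hR, Subgroup.closure_le]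
    rintro _ ⟨a, b, ha, hb, -, rfl⟩
    rw [SetLike.mem_coe, Subgroup.mem_comap, Subgroup.mem_centralizer_singleton_iff]
    have key : ∀ x, piX x ∈ X → ∃ k ∈ ({1, tX} : Set subX), n * c.ι x * n⁻¹ = c.ι (x * k) := by
      intro x hx
      obtain ⟨x', hx'⟩ := c.conj_iota hn x
      have e := c.sig_spec hn hx'
      rw [← hX _ hx, mul_inv_cancel_right] at e
      rcases piX_eq e with h | h <;> rw [h] at hx'
      · exact ⟨1, Or.inl rfl, by rw [mul_one]; exact hx'⟩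
      · exact ⟨tX, Or.inr rfl, hx'⟩
    obtain ⟨i, hi, ea⟩ := key a ha
    obtain ⟨j, hj, eb⟩ := key b hb
    have hcen : ∀ k ∈ ({1, tX} : Set subX), ∀ y : subX, y * k = k * y := by
      rintro k (rfl | rfl) y
      · simp
      · exact tX_comm y
    have e : ⁅a * i, b * j⁆ = ⁅a, b⁆ := by
      rw [commutatorElement_def, commutatorElement_def, mul_inv_rev, mul_inv_rev]
      calc a * i * (b * j) * (i⁻¹ * a⁻¹) * (j⁻¹ * b⁻¹)
          = a * ((i * b) * j) * i⁻¹ * a⁻¹ * j⁻¹ * b⁻¹ := by group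
        _ = a * ((b * i) * j) * i⁻¹ * a⁻¹ * j⁻¹ * b⁻¹ := by rw [hcen i hi b]
        _ = a * b * (i * j) * i⁻¹ * a⁻¹ * j⁻¹ * b⁻¹ := by group
        _ = a * b * (j * i) * i⁻¹ * a⁻¹ * j⁻¹ * b⁻¹ := by rw [hcen j hj i]
        _ = a * b * (j * a⁻¹) * j⁻¹ * b⁻¹ := by group
        _ = a * b * (a⁻¹ * j) * j⁻¹ * b⁻¹ := by rw [hcen j hj a⁻¹]
        _ = _ := by group
    have h : n * c.ι ⁅a, b⁆ * n⁻¹ = c.ι ⁅a, b⁆ := by
      conv_rhs => rw [← e, map_commutatorElement, ← ea, ← eb]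
      rw [map_commutatorElement, commutatorElement_def, commutatorElement_def]
      group
    exact (mul_inv_eq_iff_eq_mul.mp h).symm
  intro r hr
  exact (Subgroup.mem_centralizer_singleton_iff.mp (hle hr)).symm

/-- The permutation of a conjugate of `z` in the normaliser moves eight points. -/
theorem card_eight {h : G} (hN : h * c.z * h⁻¹ ∈ c.N) (h1 : h * c.z * h⁻¹ ≠ c.z) :
    (c.sig (h * c.z * h⁻¹)).support.card = 8 := by
  by_contra h8
  obtain ⟨hs, hne⟩ := c.sig_conj_z hN h1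
  obtain ⟨X, hX, d, hd, hd2, hd4⟩ := hasPerfectSet_of_invol hs hne h8
  obtain ⟨R, hR, hzR, hRdef⟩ := exists_perfect_lift (fun s hs => ⟨(hX s hs).1, (hX s hs).2.2⟩) hd hd2 hd4
  have hcomm := c.commute_perfect hN (fun s hs => (hX s hs).2.1) hRdef
  obtain ⟨hN', h1'⟩ := c.conj_inv_props hN h1
  obtain ⟨hs', hne'⟩ := c.sig_conj_z hN' h1'
  set P := R.map ((MulAut.conj h⁻¹).toMonoidHom.comp c.ι) with hP
  refine c.perfect_absurd (P := P) (w := h⁻¹ * c.z * h⁻¹⁻¹) ?_ ?_ ⟨tX, hzR, rfl⟩ ?_ hs' hne'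
  · rw [hP, ← Subgroup.map_commutator, hR]
  · rintro _ ⟨r, hr, rfl⟩
    refine c.mem_N.mpr ?_
    show h⁻¹ * c.ι r * h⁻¹⁻¹ * c.z = c.z * (h⁻¹ * c.ι r * h⁻¹⁻¹)
    calc h⁻¹ * c.ι r * h⁻¹⁻¹ * c.z = h⁻¹ * (c.ι r * (h * c.z * h⁻¹)) * h := by group
      _ = h⁻¹ * ((h * c.z * h⁻¹) * c.ι r) * h := by rw [hcomm r hr]
      _ = _ := by group
  · rintro _ ⟨r, -, rfl⟩
    show MulAut.conj h⁻¹ (c.ι r) * MulAut.conj h⁻¹ c.z = MulAut.conj h⁻¹ c.z * MulAut.conj h⁻¹ (c.ι r)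
    rw [← map_mul, ← map_mul, z, ← map_mul, ← map_mul, tX_comm]

/-- An involution of `K` commuting with a conjugate of `z` is `z`. -/
theorem invol_K_eq {h u : G} (hN : h * c.z * h⁻¹ ∈ c.N) (h1 : h * c.z * h⁻¹ ≠ c.z) (hu : u ∈ c.K)
    (hu2 : orderOf u = 2) (hcu : u * (h * c.z * h⁻¹) = h * c.z * h⁻¹ * u) : u = c.z := by
  by_contra hne
  have hnotN := c.not_mem_of_conj h1
  obtain ⟨hN', h1'⟩ := c.conj_inv_props hN h1
  set z' := h⁻¹ * c.z * h⁻¹⁻¹ with hz'
  set u' := h⁻¹ * u * h with hu'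
  have hu'N : u' ∈ c.N := c.mem_N.mpr (by
    calc h⁻¹ * u * h * c.z = h⁻¹ * (u * (h * c.z * h⁻¹)) * h := by group
      _ = h⁻¹ * (h * c.z * h⁻¹ * u) * h := by rw [hcu]
      _ = c.z * (h⁻¹ * u * h) := by group)
  have huu : u * u = 1 := by rw [← pow_two, ← hu2, pow_orderOf_eq_one]
  have huz : u * c.z = c.z * u := c.mem_N.mp (c.K_le_N hu)
  set μ := c.sig u' with hμ
  have hμ2 : μ * μ = 1 := by
    rw [hμ, ← c.sig_mul hu'N hu'N, show u' * u' = h⁻¹ * (u * u) * h by rw [hu']; group, huu, mul_one,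
      inv_mul_cancel, c.sig_one]
  have hμ1 : μ ≠ 1 := fun e => by
    have := c.mem_N_of_conj hu hu2 (h := h⁻¹) (by rw [inv_inv]; exact (c.sig_eq_one_iff hu'N).mp e)
    exact hnotN (inv_inv h ▸ c.N.inv_mem this)
  have hμz : μ ≠ c.sig z' := fun e => by
    have hm : u' * z' ∈ c.N := c.N.mul_mem hu'N hN'
    have hK : u' * z' ∈ c.K := (c.sig_eq_one_iff hm).mp (by
      rw [c.sig_mul hu'N hN', ← hμ, e, (c.sig_conj_z hN' h1').1])
    have hord : orderOf (u * c.z) = 2 := orderOf_eq_prime (by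
      rw [pow_two]
      calc u * c.z * (u * c.z) = u * (c.z * u) * c.z := by group
        _ = u * (u * c.z) * c.z := by rw [huz]
        _ = (u * u) * (c.z * c.z) := by group
        _ = 1 := by rw [huu, c.z_sq, one_mul]) fun e' => hne (by
      calc u = u * c.z * c.z⁻¹ := by group
        _ = c.z := by rw [e', one_mul, inv_eq_of_mul_eq_one_left c.z_sq])
    have := c.mem_N_of_conj (c.K.mul_mem hu c.z_mem_K) hord (h := h⁻¹) (by
      rw [show h⁻¹ * (u * c.z) * h⁻¹⁻¹ = u' * z' by rw [hu', hz']; group]; exact hK)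
    exact hnotN (inv_inv h ▸ c.N.inv_mem this)
  obtain ⟨g, hg⟩ := isConj_iff.mp (isConj_of_support (c.sig_conj_z hN' h1').1 pW_facts.1
    (by rw [c.card_eight hN' h1', pW_facts.2.2]))
  have hcμ : μ * c.sig z' = c.sig z' * μ := c.commute_sig hu'N hN' (by
    rw [hu', hz']
    calc h⁻¹ * u * h * (h⁻¹ * c.z * h⁻¹⁻¹) = h⁻¹ * (u * c.z) * h := by group
      _ = h⁻¹ * (c.z * u) * h := by rw [huz]
      _ = _ := by group)
  let φ := MulAut.conj g⁻¹
  have hgW : φ (c.sig z') = pW 0 := by rw [← hg, MulAut.conj_apply]; group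
  obtain ⟨x, hx3, hxs, hxc, hxW⟩ := exists_move (q := φ μ) (by rw [← hgW, ← map_mul, hcμ, map_mul])
    (by rw [← map_mul, hμ2, map_one]) (fun e => hμ1 (φ.injective (e.trans (map_one φ).symm)))
    (fun e => hμz (φ.injective (e.trans hgW.symm)))
  obtain ⟨x, rfl⟩ := φ.surjective x
  have hxs' : Perm.sign x = 1 := by
    simpa [φ, MulAut.conj_apply, map_mul, map_inv, Int.units_inv_eq_self, mul_comm, ← mul_assoc, Int.units_mul_self] using hxs
  have hx3' : x * x * x = 1 := φ.injective (by rw [map_mul, map_mul, hx3, map_one])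
  obtain ⟨xl, hxl⟩ := exists_lift hxs'
  set l := xl ^ 4 with hl
  have hπl : piX l = x := by
    rw [hl, map_pow, hxl, show x ^ 4 = x * x * x * x by simp [pow_succ], hx3', one_mul]
  have hl3 : l * l * l = 1 := by
    have e : piX (xl ^ 3) = 1 := by rw [map_pow, hxl, show x ^ 3 = x * x * x by simp [pow_succ], hx3']
    have h6 : xl ^ 6 = 1 := by
      rw [show 6 = 3 + 3 by rfl, pow_add]
      rcases piX_eq_one.mp e with e | e <;> rw [e]
      · exact one_mul _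
      · exact tX_sq
    rw [hl, ← pow_add, ← pow_add, show 4 + 4 + 4 = 6 + 6 by rfl, pow_add, h6, one_mul]
  -- the lift centralises `u'`
  have hul : u' * c.ι l = c.ι l * u' := by
    obtain ⟨l', hl'⟩ := c.conj_iota hu'N l
    have e := c.sig_spec hu'N hl'
    have hxμ : x * μ = μ * x := φ.injective (by rw [map_mul, map_mul, hxc])
    rw [hπl, ← hμ, ← hxμ, mul_inv_cancel_right, ← hπl] at e
    rcases piX_eq e with e | e <;> rw [e] at hl'
    · exact mul_inv_eq_iff_eq_mul.mp hl'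
    · exfalso
      refine tX_ne (c.inj ?_)
      rw [map_one]
      have h3 : c.ι (l * tX) * c.ι (l * tX) * c.ι (l * tX) = 1 := by
        rw [← hl']
        calc _ = u' * c.ι (l * l * l) * u'⁻¹ := by rw [map_mul, map_mul]; group
          _ = 1 := by rw [hl3, map_one, mul_one, mul_inv_cancel]
      rw [← map_mul, ← map_mul] at h3
      have e' : l * tX * (l * tX) * (l * tX) = tX := by
        have hc : Commute l tX := tX_comm l
        calc l * tX * (l * tX) * (l * tX) = (l * tX) ^ 3 := by rw [pow_succ, pow_succ, pow_one]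
          _ = l ^ 3 * tX ^ 3 := hc.mul_pow 3
          _ = _ := by
            rw [pow_succ, pow_succ, pow_one, hl3, one_mul, pow_succ, pow_succ, pow_one, tX_sq, one_mul]
      rw [← h3, e']
  -- so it centralises `z'`
  have hmem : h * c.ι l * h⁻¹ ∈ c.N := c.centralizer_le hu hu2 (by
    calc h * c.ι l * h⁻¹ * u = h * (c.ι l * u') * h⁻¹ := by rw [hu']; group
      _ = h * (u' * c.ι l) * h⁻¹ := by rw [hul]
      _ = _ := by rw [hu']; group)
  have hlz : c.ι l * z' = z' * c.ι l := by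
    rw [hz']
    calc c.ι l * (h⁻¹ * c.z * h⁻¹⁻¹) = h⁻¹ * ((h * c.ι l * h⁻¹) * c.z) * h := by group
      _ = h⁻¹ * (c.z * (h * c.ι l * h⁻¹)) * h := by rw [c.mem_N.mp hmem]
      _ = _ := by group
  have e := c.commute_sig (c.iota_mem_N l) hN' hlz
  rw [c.sig_iota, hπl] at e
  exact hxW (by rw [← hgW, ← map_mul, e, map_mul])

/-- The conjugates of `z` in the normaliser lie in the copy, conjugate there to `W`. -/
theorem conj_mem {h : G} (hN : h * c.z * h⁻¹ ∈ c.N) (h1 : h * c.z * h⁻¹ ≠ c.z) :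
    ∃ x : subX, h * c.z * h⁻¹ = c.ι (x⁻¹ * xW 0 * x) := by
  obtain ⟨hs, hne⟩ := c.sig_conj_z hN h1
  set w := h * c.z * h⁻¹ with hw
  have hsign : Perm.sign (c.sig w) = 1 := by
    obtain ⟨n, hn, hcard⟩ := cycleType_of_sq hs hne
    rw [c.card_eight hN h1] at hcard
    rw [Perm.sign_of_cycleType, hn, Multiset.sum_replicate, Multiset.card_replicate, smul_eq_mul,
      show n = 3 by omega]
    decide
  obtain ⟨g, hg⟩ := (conj_class (σ := ⟨c.sig w, Perm.mem_alternatingGroup.mpr hsign⟩) hs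
    fun e => hne (congrArg Subtype.val e)).resolve_left fun e => by
      have h8 := c.card_eight hN h1
      rw [← hw] at h8
      exact absurd (h8.symm.trans e) (by norm_num)
  obtain ⟨w₀, v, hw₀, hw₀2, -⟩ := exists_w piA_surj piA_ker piA_E
  obtain ⟨y, rfl⟩ := piA_surj g
  set l := y * w₀ * y⁻¹ with hl
  have hπ : piX l = c.sig w := by
    rw [piX_def, hl, map_mul, map_mul, map_inv, hw₀, hg]
  have hl2 : l * l = 1 := by
    rw [hl, show y * w₀ * y⁻¹ * (y * w₀ * y⁻¹) = y * (w₀ * w₀) * y⁻¹ by group, hw₀2]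
    group
  have hlN := c.iota_mem_N l
  have hli : (c.ι l)⁻¹ = c.ι l := by rw [← map_inv, inv_eq_of_mul_eq_one_left hl2]
  set k := w * c.ι l with hk
  have hkK : k ∈ c.K := (c.sig_eq_one_iff (c.N.mul_mem hN hlN)).mp (by
    rw [c.sig_mul hN hlN, c.sig_iota, hπ, hs])
  have hkl := c.mem_K.mp hkK l
  have hwk : w = k * c.ι l := by rw [hk, mul_assoc, ← map_mul, hl2, map_one, mul_one]
  have hkk : k * k = 1 := by
    have h2 : w * w = 1 := c.conj_z_sq h
    rw [hwk] at h2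
    calc k * k = (k * k) * (c.ι l * c.ι l) := by rw [← map_mul, hl2, map_one, mul_one]
      _ = k * (k * c.ι l) * c.ι l := by group
      _ = k * (c.ι l * k) * c.ι l := by rw [hkl]
      _ = 1 := by rw [← h2]; group
  have hl1 : l ≠ 1 := fun e => hne (by rw [← hπ, e, map_one])
  have hlT : l ≠ tX := fun e => hne (by rw [← hπ, e, piX_tX])
  by_cases hk1 : k = 1
  · obtain ⟨x, hx⟩ := conj_W0 hl2 hl1 hlT
    exact ⟨x, by rw [hx, hwk, hk1, one_mul]⟩
  · have hkz : k = c.z := c.invol_K_eq hN h1 hkK (orderOf_eq_prime (by rw [pow_two, hkk]) hk1) (by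
      rw [← hw, hwk]
      calc k * (k * c.ι l) = k * (c.ι l * k) := by rw [hkl]
        _ = _ := by group)
    have hlt : (l * tX) * (l * tX) = 1 := by
      rw [show l * tX * (l * tX) = l * (tX * l) * tX by group, ← tX_comm l,
        show l * (l * tX) * tX = (l * l) * (tX * tX) by group, hl2, tX_sq, one_mul]
    obtain ⟨x, hx⟩ := conj_W0 hlt
      (fun e => hlT (by rw [← mul_one l, ← tX_sq, ← mul_assoc, e, one_mul]))
      (fun e => hl1 (mul_right_cancel (e.trans (one_mul tX).symm)))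
    exact ⟨x, by rw [hx, hwk, hkz, z, ← map_mul, tX_comm]⟩

end Ctx

end CfsgLib.LyStd
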