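import Cfsg.Agent.Lib.LyRecog.Cent
import Cfsg.Agent.Lib.LyStd.Data

/-!
Permutations of eleven points given by their lists of values.
-/

set_option autoImplicit false

namespace CfsgLib.LyStd

open Equiv CfsgLib.CosetEnum CfsgLib.LyPres CfsgLib.LyCent CfsgLib.LyCent.Fus CfsgLib.LyCent.Out
  CfsgLib.LyRecog

/-- the list of values of a permutation -/
def RepL (l : List ℕ) (q : Perm (Fin 11)) : Prop := ∀ x : Fin 11, l.getD x.1 0 = (q x : ℕ)

/-- composition -/
def mulL (a b : List ℕ) : List ℕ := (List.range 11).map fun i => a.getD (b.getD i 0) 0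

/-- the identity -/
def oneL : List ℕ := [0, 1, 2, 3, 4, 5, 6, 7, 8, 9, 10]

/-- the permutation `W` -/
def wL : List ℕ := [1, 0, 3, 2, 5, 4, 7, 6, 8, 9, 10]

/-- powers -/
def pwL : ℕ → List ℕ → List ℕ
  | 0, _ => oneL
  | n + 1, l => mulL l (pwL n l)

theorem getD_map_range (f : ℕ → ℕ) (x : Fin 11) : ((List.range 11).map f).getD x.1 0 = f x.1 := by
  rw [List.getD_eq_getElem _ _ (by rw [List.length_map, List.length_range]; exact x.2), List.getElem_map,
    List.getElem_range]

theorem RepL.mul {a b : List ℕ} {p q : Perm (Fin 11)} (ha : RepL a p) (hb : RepL b q) :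
    RepL (mulL a b) (p * q) := fun x => by
  rw [mulL, getD_map_range, hb x, ha (q x), Perm.mul_apply]

theorem RepL.one : RepL oneL 1 := by unfold RepL; decide

theorem rep_W : RepL wL (pW 0) := fun x => by
  rw [chk_partner.1 x]
  have h : ∀ x : Fin 11, wL.getD x.1 0 = partner x.1 := by decide
  exact h x

theorem RepL.pow {a : List ℕ} {p : Perm (Fin 11)} (ha : RepL a p) : ∀ n, RepL (pwL n a) (p ^ n)
  | 0 => by rw [pow_zero]; exact RepL.one
  | n + 1 => by rw [pow_succ']; exact ha.mul (RepL.pow ha n)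

theorem RepL.eq {a b : List ℕ} {p q : Perm (Fin 11)} (ha : RepL a p) (hb : RepL b q)
    (h : beqL a b = true) : p = q :=
  Equiv.ext fun x => Fin.ext (by rw [← ha x, ← hb x, beqL_iff.mp h])

theorem RepL.eq_mul {a b : List ℕ} {p q : Perm (Fin 11)} (ha : RepL a p) (hb : RepL b q) (hl : a.length = 11)
    (hm : b.length = 11) (h : p = q) : beqL a b = true := by
  subst h
  rw [beqL_iff]
  refine List.ext_getElem (hl.trans hm.symm) fun i h1 h2 => ?_
  have := (ha ⟨i, hl ▸ h1⟩).trans (hb ⟨i, hl ▸ h1⟩).symm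
  rwa [List.getD_eq_getElem _ _ h1, List.getD_eq_getElem _ _ h2] at this

theorem RepL.inv {a b : List ℕ} {p : Perm (Fin 11)} (ha : RepL a p) (hb : ∀ x : Fin 11, b.getD x.1 0 < 11)
    (h : beqL (mulL a b) oneL = true) : RepL b p⁻¹ := fun x => by
  have h1 : (mulL a b).getD x.1 0 = x.1 := by
    rw [beqL_iff.mp h]
    exact RepL.one x
  rw [mulL, getD_map_range] at h1
  have h2 : p ⟨b.getD x.1 0, hb x⟩ = x := Fin.ext ((ha ⟨b.getD x.1 0, hb x⟩).symm.trans h1)
  show (⟨b.getD x.1 0, hb x⟩ : Fin 11).1 = _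
  exact congrArg Fin.val (Perm.eq_inv_iff_eq.mpr h2)

/-- a product of transpositions -/
def sP (l : List (Fin 11 × Fin 11)) : Perm (Fin 11) := (l.map fun t => swap t.1 t.2).prod

/-- a transposition as a function -/
def swN (t : Fin 11 × Fin 11) (x : ℕ) : ℕ :=
  bif Nat.beq x t.1.1 then t.2.1 else bif Nat.beq x t.2.1 then t.1.1 else x

/-- the values of a product of transpositions -/
def sL (l : List (Fin 11 × Fin 11)) : List ℕ := (List.range 11).map fun i => l.foldr swN i

theorem rep_sP (l : List (Fin 11 × Fin 11)) : RepL (sL l) (sP l) := fun x => by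
  rw [sL, getD_map_range]
  induction l with
  | nil => rfl
  | cons t l ih =>
    rw [List.foldr_cons, ih, show sP (t :: l) = swap t.1 t.2 * sP l from List.prod_cons, Perm.mul_apply]
    generalize sP l x = y
    have h : ∀ t : Fin 11 × Fin 11, ∀ y : Fin 11, swN t y.1 = (swap t.1 t.2 y : ℕ) := by decide +kernel
    exact h t y

/-- the three-cycle on the points moved by no transposition of `W` -/
def cP : Perm (Fin 11) := sP [(8, 9), (9, 10)]

theorem sign_sP : ∀ l : List (Fin 11 × Fin 11), (∀ t ∈ l, t.1 ≠ t.2) →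
    Perm.sign (sP l) = (-1) ^ l.length
  | [], _ => by rw [sP, List.map_nil, List.prod_nil, map_one]; rfl
  | t :: l, h => by
    rw [sP, List.map_cons, List.prod_cons, map_mul, Perm.sign_swap (h t List.mem_cons_self), ← sP,
      sign_sP l fun u hu => h u (List.mem_cons_of_mem _ hu), List.length_cons, pow_succ']

/-- the permutation of a conjugator -/
def yPerm (l : List ℕ) : Perm (Fin 11) := prodW pN (l.flatMap fun g => gWords.getD g [])

/-- its values -/
def pathL (l : List ℕ) : List ℕ :=
  (List.range 11).map fun x => l.foldr (fun g y => (gPerm.getD g []).getD y 0) x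

theorem rep_path (l : List ℕ) (hl : ∀ g ∈ l, g < 3) : RepL (pathL l) (yPerm l) := fun x => by
  rw [pathL, getD_map_range, yPerm]
  induction l with
  | nil => rfl
  | cons g l ih =>
    rw [List.foldr_cons, ih fun u hu => hl u (List.mem_cons_of_mem _ hu), List.flatMap_cons, prodW_append,
      Perm.mul_apply]
    generalize prodW pN (List.flatMap (fun g => gWords.getD g []) l) x = y
    rw [← pWord_spec]
    exact (chk_perms.1 g (hl g List.mem_cons_self) _ y.2).1

end CfsgLib.LyStd
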