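import Cfsg.Agent.Lib.LyStd.Outer
import Cfsg.Agent.Lib.LyRecog.Amalg.Final
import Cfsg.Agent.Lib.LyUnique.OfSetup

/-!
The odd part of the centraliser of the copy is trivial: otherwise its normaliser would be strongly
embedded with the Lyons group as quotient.
-/

set_option autoImplicit false
set_option linter.style.haveILetI false
set_option linter.unusedSectionVars false

namespace CfsgLib.LyStd

open Equiv CfsgLib.CosetEnum CfsgLib.LyPres CfsgLib.LyCent CfsgLib.LyCent.Fus CfsgLib.LyCent.Out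
  CfsgLib.LyRecog

universe u

theorem xW_ne_tX : xW 0 ≠ tX := fun e => pW_facts.2.1 (by rw [← piX_W, e, piX_tX])

/-- A group with the centraliser and the fusion of the Lyons group is an image of it. -/
theorem exists_onto {H : Type u} [Group H] [Finite H] (φ : subX →* H) (hφ : Function.Injective φ)
    (hr : φ.range = Subgroup.centralizer ({φ tX} : Set H))
    (hfus : ∃ h : H, ∃ x : subX, x ≠ tX ∧ h⁻¹ * φ tX * h = φ x) :
    ∃ f : LyPres.G →* H, Function.Bijective f := by
  haveI := LyPres.finite_G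
  haveI := simple_G
  obtain ⟨D⟩ := exists_dat hφ hr hfus
  obtain ⟨ψ, hψ, hψr, hψT, D', ht'⟩ := exists_gam φ hφ hr D
  obtain ⟨D'', ht'', hg⟩ := exists_invol hψ hψr D' ht'
  obtain ⟨S, hS, hrel⟩ := exists_setup_of_dat hψ hψr D'' ht'' hg
  obtain ⟨f, hf⟩ := exists_hom S hrel
  have ht : orderOf (S.φ tX) = 2 := by rw [orderOf_injective S.φ S.inj, orderOf_tX]
  have hfT : f LyCent.T = S.φ tX := by
    rw [show LyCent.T = ((tX : subX) : LyPres.G) from rfl]; exact hf tX
  have htop := LyUnique.Onto.eq_top_of_hom ht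
    (by rw [← S.range_eq, ← Nat.card_congr (MonoidHom.ofInjective S.inj).toEquiv, card_subX]) f hfT
  refine ⟨f, ?_, MonoidHom.range_eq_top.mp htop⟩
  rw [← MonoidHom.ker_eq_bot_iff]
  refine f.normal_ker.eq_bot_or_eq_top.resolve_right fun h => ?_
  have h1 : f LyCent.T = 1 := MonoidHom.mem_ker.mp (h ▸ Subgroup.mem_top _)
  rw [← hfT, h1, orderOf_one] at ht
  exact absurd ht (by norm_num)

/-- A strongly embedded subgroup has no Lyons quotient with an odd kernel. -/
theorem strongly_absurd {G : Type u} [Group G] [Finite G] {M : Subgroup G} (hse : Cfsg.IsStronglyEmbedded M)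
    (E : Subgroup M) [E.Normal] (φ : subX →* M ⧸ E) (hφ : Function.Injective φ)
    (hr : φ.range = Subgroup.centralizer ({φ tX} : Set (M ⧸ E))) {z : G} (hz : orderOf z = 2) (hzM : z ∈ M)
    (hzφ : QuotientGroup.mk' E ⟨z, hzM⟩ = φ tX) (f : LyPres.G →* M ⧸ E) (hf : Function.Bijective f) : False := by
  classical
  haveI := LyPres.finite_G
  obtain ⟨u, hu2, huM⟩ := CfsgLib.Invol.strongly_exists_invol_not_mem hse
  set D0 := M ⊓ M.map (MulAut.conj u).toMonoidHom with hD0
  have hodd : Odd (Nat.card D0) := hse.2.2 u huM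
  set π := QuotientGroup.mk' E with hπ
  set D := (D0.subgroupOf M).map π with hD
  have hDodd : Odd (Nat.card D) := by
    refine hodd.of_dvd_nat ?_
    rw [← Nat.card_congr (Subgroup.subgroupOfEquivOfLe (inf_le_left : D0 ≤ M)).toEquiv]
    exact Subgroup.card_map_dvd _ _
  set tb : M ⧸ E := φ tX with htb
  have hcardM : Nat.card (M ⧸ E) = 51765179004000000 := by
    rw [← Nat.card_congr (Equiv.ofBijective f hf)]; exact card_G
  have hC : Nat.card (Subgroup.centralizer ({tb} : Set (M ⧸ E))) = 39916800 := by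
    rw [← hr, ← Nat.card_congr (MonoidHom.ofInjective hφ).toEquiv, card_subX]
  have hcount : Nat.card (MulAction.orbit (ConjAct (M ⧸ E)) tb) = 1296826875 := by
    have h1 := Subgroup.card_eq_card_quotient_mul_card_subgroup (MulAction.stabilizer (ConjAct (M ⧸ E)) tb)
    rw [← Nat.card_congr (MulAction.orbitEquivQuotientStabilizer (ConjAct (M ⧸ E)) tb)] at h1
    have h2 : Nat.card (MulAction.stabilizer (ConjAct (M ⧸ E)) tb) = 39916800 := by
      rw [← hC]
      refine Nat.card_congr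
        { toFun := fun c => ⟨ConjAct.ofConjAct (c : ConjAct (M ⧸ E)), ?_⟩
          invFun := fun c => ⟨ConjAct.toConjAct (c : M ⧸ E), ?_⟩
          left_inv := fun c => rfl
          right_inv := fun c => rfl }
      · refine Subgroup.mem_centralizer_singleton_iff.2 ?_
        have hc : (c : ConjAct (M ⧸ E)) • tb = tb := c.2
        rw [ConjAct.smul_def] at hc
        exact mul_inv_eq_iff_eq_mul.1 hc
      · rw [MulAction.mem_stabilizer_iff, ConjAct.smul_def, ConjAct.ofConjAct_toConjAct]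
        exact mul_inv_eq_iff_eq_mul.2 (Subgroup.mem_centralizer_singleton_iff.1 c.2)
    rw [h2, show Nat.card (ConjAct (M ⧸ E)) = 51765179004000000 from hcardM] at h1
    omega
  have hdiv : 1296826875 ∣ Nat.card D := by
    let DC : Subgroup (ConjAct (M ⧸ E)) := D.map ConjAct.toConjAct.toMonoidHom
    have hDC : Nat.card DC = Nat.card D := Subgroup.card_map_of_injective ConjAct.toConjAct.injective
    have horb : MulAction.orbit DC tb = MulAction.orbit (ConjAct (M ⧸ E)) tb := by
      refine Set.Subset.antisymm ?_ ?_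
      · rintro _ ⟨g, rfl⟩; exact ⟨(g : ConjAct (M ⧸ E)), rfl⟩
      · rintro w ⟨g, rfl⟩
        obtain ⟨m, hm⟩ := QuotientGroup.mk'_surjective E (ConjAct.ofConjAct g)
        have hmz : orderOf ((m : G) * z * (m : G)⁻¹) = 2 := by
          rw [← MulAut.conj_apply, MulEquiv.orderOf_eq, hz]
        obtain ⟨d, hd, ed⟩ := CfsgLib.Invol.strongly_inter_transitive hse hu2 huM hz hzM hmz
          (M.mul_mem (M.mul_mem m.2 hzM) (M.inv_mem m.2))
        have hdM : d ∈ M := hd.1
        refine ⟨⟨ConjAct.toConjAct (π ⟨d, hdM⟩), ⟨π ⟨d, hdM⟩, ⟨⟨d, hdM⟩, hd, rfl⟩, rfl⟩⟩, ?_⟩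
        show ConjAct.toConjAct (π ⟨d, hdM⟩) • tb = g • tb
        rw [ConjAct.toConjAct_smul, ConjAct.smul_def, ← hm, ← hzφ, ← hπ, ← map_inv, ← map_inv, ← map_mul,
          ← map_mul, ← map_mul, ← map_mul]
        exact congrArg π (Subtype.ext ed)
    have h1 := Subgroup.card_eq_card_quotient_mul_card_subgroup (MulAction.stabilizer DC tb)
    rw [← Nat.card_congr (MulAction.orbitEquivQuotientStabilizer DC tb), horb, hcount, hDC] at h1
    exact ⟨_, h1⟩
  have hDd : Nat.card D ∣ 51765179004000000 := hcardM ▸ Subgroup.card_subgroup_dvd_card D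
  have hod : Nat.card D ∣ 202207730484375 := by
    have hc : Nat.Coprime (Nat.card D) (2 ^ 8) := (Nat.coprime_two_right.2 hDodd).pow_right 8
    refine hc.dvd_of_dvd_mul_left ?_
    norm_num
    exact hDd
  obtain ⟨q, hq⟩ := hdiv
  have hq' : q ∣ 155925 := Nat.dvd_of_mul_dvd_mul_left (by norm_num : 0 < 1296826875)
    (by rw [← hq]; norm_num; exact hod)
  haveI : Group.IsSolvable D := CfsgLib.OddOrder.solvable_of_odd (Nat.card D) D rfl hDodd
  have hmn : Nat.card D = 2479 * (523125 * q) := by rw [hq]; ring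
  have hcop : Nat.Coprime 2479 (523125 * q) :=
    (show Nat.Coprime 2479 (523125 * 155925) by norm_num).coprime_dvd_right (Nat.mul_dvd_mul_left _ hq')
  obtain ⟨K, hK⟩ := CfsgLib.Hall.exists_hall hmn hcop
  obtain ⟨x, y, hx, hy, hxy⟩ := LyUnique.Onto.card_2479 hK
  let j : K →* LyPres.G :=
    (MulEquiv.ofBijective f hf).symm.toMonoidHom.comp (D.subtype.comp K.subtype)
  have hj : Function.Injective j :=
    (MulEquiv.ofBijective f hf).symm.injective.comp (D.subtype_injective.comp K.subtype_injective)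
  exact LyUnique.Onto.no_commute (by rw [orderOf_injective j hj, hx]) (by rw [orderOf_injective j hj, hy])
    (by rw [← map_mul, ← map_mul, hxy])

namespace Ctx

variable {G : Type u} [Group G] (c : Ctx G) [Finite G] [IsSimpleGroup G]
variable {g : G} (hg : g⁻¹ * c.z * g = c.ι (xW 0))
include hg

theorem N_le_normalizer : c.N ≤ Subgroup.normalizer (c.D hg : Set G) := fun n hn =>
  Subgroup.mem_normalizer_iff.mpr fun d => ⟨fun hd => c.N_normalises_D hg hn hd, fun hd => by
    have h := c.N_normalises_D hg (c.N.inv_mem hn) hd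
    rwa [show n⁻¹ * (n * d * n⁻¹) * n⁻¹⁻¹ = d by group] at h⟩

/-- An involution of the normaliser of `D` is conjugate there to `z`. -/
theorem invol_conj_M {v : G} (hv : v ∈ Subgroup.normalizer (c.D hg : Set G)) (h2 : orderOf v = 2) :
    ∃ k ∈ Subgroup.normalizer (c.D hg : Set G), k * v * k⁻¹ = c.z := by
  haveI : Fact (Nat.Prime 2) := ⟨Nat.prime_two⟩
  set M := Subgroup.normalizer (c.D hg : Set G) with hM
  obtain ⟨S⟩ : Nonempty (Sylow 2 c.N) := inferInstance
  obtain ⟨P, hP⟩ := c.sylow_top S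
  have hPN : (P : Subgroup G) ≤ c.N := hP ▸ Subgroup.map_subtype_le _
  have hPM : (P : Subgroup G) ≤ M := hPN.trans (c.N_le_normalizer hg)
  obtain ⟨S₂, hS₂⟩ := (IsPGroup.of_card (p := 2) (n := 1)
    (show Nat.card (Subgroup.zpowers (⟨v, hv⟩ : M)) = 2 ^ 1 by
      rw [Nat.card_zpowers, ← Subgroup.orderOf_coe, h2, pow_one])).exists_le_sylow
  obtain ⟨m, hm⟩ := MulAction.exists_smul_eq M S₂ (P.subtype hPM)
  have hmv : (m : G) * v * (m : G)⁻¹ ∈ (P : Subgroup G) := by
    have h : m * (⟨v, hv⟩ : M) * m⁻¹ ∈ ((m • S₂ : Sylow 2 M) : Subgroup M) := by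
      rw [Sylow.coe_subgroup_smul]
      exact ⟨⟨v, hv⟩, hS₂ (Subgroup.mem_zpowers _), rfl⟩
    rw [hm] at h
    exact h
  set v' := (m : G) * v * (m : G)⁻¹ with hv'
  have hv'2 : orderOf v' = 2 := by rw [hv', ← MulAut.conj_apply, MulEquiv.orderOf_eq, h2]
  obtain ⟨l, hl, hl2⟩ := c.invol_mem hg (hPN hmv) (by rw [← pow_two, ← hv'2, pow_orderOf_eq_one])
  by_cases hT : l = tX
  · exact ⟨m, m.2, by rw [← hv', hl, hT]; rfl⟩
  obtain ⟨y, hy⟩ := conj_W0 hl2 (fun e => by
    rw [e, map_one] at hl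
    rw [hl, orderOf_one] at hv'2
    omega) hT
  refine ⟨g * c.ι y * m, M.mul_mem (M.mul_mem (c.g_normalises_D hg) (c.N_le_normalizer hg (c.iota_mem_N y))) m.2, ?_⟩
  calc g * c.ι y * m * v * (g * c.ι y * m)⁻¹ = g * (c.ι y * v' * (c.ι y)⁻¹) * g⁻¹ := by rw [hv']; group
    _ = c.z := by
      rw [hl, ← hy, ← map_inv, ← map_mul, ← map_mul,
        show y * (y⁻¹ * xW 0 * y) * y⁻¹ = xW 0 by group]
      exact c.g_conj_W hg

/-- The odd part of the centraliser is trivial. -/
theorem D_eq_bot : c.D hg = ⊥ := by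
  by_contra hne
  set M := Subgroup.normalizer (c.D hg : Set G) with hM
  have hMtop : M ≠ ⊤ := fun e => by
    haveI : (c.D hg).Normal := Subgroup.normalizer_eq_top_iff.mp e
    have ht : c.D hg = ⊤ := (Subgroup.Normal.eq_bot_or_eq_top inferInstance).resolve_left hne
    have h := c.D_odd hg
    rw [ht, Subgroup.card_top] at h
    exact (Nat.not_even_iff_odd.mpr h) (even_iff_two_dvd.mpr (c.orderOf_z ▸ orderOf_dvd_natCard c.z))
  have hNM := c.N_le_normalizer hg
  have hzM : c.z ∈ M := hNM c.z_mem_N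
  have heven : Even (Nat.card M) :=
    even_iff_two_dvd.mpr (c.orderOf_z ▸ Subgroup.orderOf_dvd_natCard _ hzM)
  have hse : Cfsg.IsStronglyEmbedded M := (CfsgLib.Invol.strongly_iff_centralizer_fusion hMtop heven).2
    ⟨fun v hv hv2 x hx => by
      obtain ⟨k, hk, ek⟩ := c.invol_conj_M hg hv hv2
      have hx' : k * x * k⁻¹ ∈ c.N := c.mem_N.mpr (by
        rw [← ek]
        calc k * x * k⁻¹ * (k * v * k⁻¹) = k * (x * v) * k⁻¹ := by group
          _ = k * (v * x) * k⁻¹ := by rw [Subgroup.mem_centralizer_singleton_iff.1 hx]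
          _ = _ := by group)
      rw [show x = k⁻¹ * (k * x * k⁻¹) * k by group]
      exact mul_mem (mul_mem (inv_mem hk) (hNM hx')) hk,
    fun v hv w hw hv2 hw2 _ => by
      obtain ⟨k, hk, ek⟩ := c.invol_conj_M hg hv hv2
      obtain ⟨k', hk', ek'⟩ := c.invol_conj_M hg hw hw2
      refine ⟨k'⁻¹ * k, mul_mem (inv_mem hk') hk, ?_⟩
      rw [show k'⁻¹ * k * v * (k'⁻¹ * k)⁻¹ = k'⁻¹ * (k * v * k⁻¹) * k' by group, ek, ← ek']
      group⟩
  set E := (c.D hg).subgroupOf M with hE
  haveI hEn : E.Normal := Subgroup.normal_in_normalizer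
  set π := QuotientGroup.mk' E with hπ
  set φ : subX →* M ⧸ E := π.comp (c.ι.codRestrict M fun x => hNM (c.iota_mem_N x)) with hφd
  have hφx : ∀ x, φ x = π ⟨c.ι x, hNM (c.iota_mem_N x)⟩ := fun x => rfl
  have hφ : Function.Injective φ := by
    rw [injective_iff_map_eq_one]
    intro x hx
    rw [hφx, hπ, QuotientGroup.mk'_apply, QuotientGroup.eq_one_iff] at hx
    have hxD : c.ι x ∈ c.D hg := hx
    have hK := ((c.mem_D hg).mp hxD).1
    rcases central_eq (x := x) (fun y => c.inj (by rw [map_mul, map_mul]; exact c.mem_K.mp hK y)) with e | e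
    · exact e
    · exfalso
      have h := c.orderOf_D hg hxD
      rw [e, show c.ι tX = c.z from rfl, c.orderOf_z] at h
      exact absurd h (by decide)
  have hzφ : π ⟨c.z, hzM⟩ = φ tX := rfl
  have hr : φ.range = Subgroup.centralizer ({φ tX} : Set (M ⧸ E)) := by
    refine le_antisymm ?_ fun m hm => ?_
    · rintro _ ⟨x, rfl⟩
      rw [Subgroup.mem_centralizer_singleton_iff, ← map_mul, ← map_mul, tX_comm]
    obtain ⟨m, rfl⟩ := QuotientGroup.mk'_surjective E m
    rw [Subgroup.mem_centralizer_singleton_iff, ← hπ, ← hzφ, ← map_mul, ← map_mul, hπ,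
      QuotientGroup.mk'_apply, QuotientGroup.mk'_apply, QuotientGroup.eq] at hm
    set d := ((m * ⟨c.z, hzM⟩)⁻¹ * (⟨c.z, hzM⟩ * m) : M) with hd
    have hdD : (d : G) ∈ c.D hg := hm
    have hdK := ((c.mem_D hg).mp hdD).1
    have hdz : (d : G) * c.z = c.z * d := c.mem_N.mp (c.K_le_N hdK)
    have e : (d : G) = c.z⁻¹ * ((m : G)⁻¹ * c.z * m) := by
      rw [hd, Subgroup.coe_mul, Subgroup.coe_inv, Subgroup.coe_mul, Subgroup.coe_mul, mul_inv_rev]
      group
    have hd2 : (d : G) * d = 1 := by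
      calc (d : G) * d = (c.z * c.z) * ((d : G) * d) := by rw [c.z_sq, one_mul]
        _ = c.z * (c.z * d) * d := by group
        _ = c.z * ((d : G) * c.z) * d := by rw [hdz]
        _ = (c.z * d) * (c.z * d) := by group
        _ = 1 := by
          rw [e, mul_inv_cancel_left,
            show (m : G)⁻¹ * c.z * m * ((m : G)⁻¹ * c.z * m) = (m : G)⁻¹ * (c.z * c.z) * m by group, c.z_sq]
          group
    have hd1 : (d : G) = 1 := orderOf_eq_one_iff.mp (Nat.eq_one_of_dvd_coprimes
      (Nat.coprime_two_left.mpr (c.orderOf_D hg hdD)) (orderOf_dvd_of_pow_eq_one (by rw [pow_two, hd2]))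
      dvd_rfl)
    have hmN : (m : G) ∈ c.N := c.mem_N.mpr (by
      rw [e, inv_mul_eq_one] at hd1
      calc (m : G) * c.z = m * ((m : G)⁻¹ * c.z * m) := by rw [← hd1]
        _ = _ := by group)
    obtain ⟨l, d', hd', hml⟩ := c.decomp hg hmN
    refine ⟨l, ?_⟩
    rw [hφx, hπ, QuotientGroup.mk'_apply, QuotientGroup.mk'_apply, QuotientGroup.eq]
    show (c.ι l)⁻¹ * (m : G) ∈ c.D hg
    rwa [hml, inv_mul_cancel_left]
  have hgM : g ∈ M := c.g_normalises_D hg
  obtain ⟨f, hf⟩ := exists_onto φ hφ hr ⟨π ⟨g, hgM⟩, xW 0, xW_ne_tX, by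
    rw [← hzφ, hφx, ← map_inv, ← map_mul, ← map_mul]
    exact congrArg π (Subtype.ext hg)⟩
  exact strongly_absurd hse E φ hφ hr c.orderOf_z hzM hzφ f hf

/-- A standard double cover of the alternating group on eleven points makes a Lyons group. -/
theorem iso_ly : Cfsg.Spor.IsoLy G := by
  have hN : c.ι.range = Subgroup.centralizer ({c.ι tX} : Set G) := by
    refine le_antisymm ?_ fun n hn => ?_
    · rintro _ ⟨x, rfl⟩
      exact c.iota_mem_N x
    · obtain ⟨l, d, hd, rfl⟩ := c.decomp hg (n := n) hn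
      rw [c.D_eq_bot hg, Subgroup.mem_bot] at hd
      exact ⟨l, by rw [hd, mul_one]⟩
  obtain ⟨f, hf⟩ := exists_onto c.ι c.inj hN ⟨g, xW 0, xW_ne_tX, hg⟩
  exact ⟨(MulEquiv.ofBijective f hf).symm⟩

end Ctx

end CfsgLib.LyStd
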